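import Cfsg.Agent.Lib.BN.Cosets
import Cfsg.Agent.Lib.Char.Perm
import Cfsg.Agent.Lib.Char.Virtual

/-!
# The Steinberg character of a finite (B,N)-pair (Curtis' alternating sum)

`St P g = ∑_{A ⊆ S} (-1)^|A| · (number of fixed points of g on G/P_A)`.

* `isIrrCharacter_St` : it is an irreducible character;
* `St_apply_of_mem_B` : at `b ∈ B` it is the number of fixed points of `b` on the big cell of `G/B`;
* `St_of_regular` : if `U ≤ B` acts regularly on the big cell then `St 1 = |U|` and `St` vanishes on `U - {1}`.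
-/

set_option autoImplicit false

namespace Cfsg.Agent.BN

open Cfsg Cfsg.Agent.Char Finset

variable {G : Type*} [Group G] [Finite G] (P : Cfsg.BNPair G)

/-- The Steinberg character. -/
noncomputable def St (g : G) : ℂ :=
  letI := Fintype.ofFinite P.S
  ∑ A : Finset P.S, (-1 : ℂ) ^ A.card * fixedPointCharacter (parab P (A : Set P.S)) g

/-- Signed sum over the subsets of a finite set cut out by a predicate. -/
theorem sum_neg_one_pow_ite {α : Type*} [Fintype α] (p : α → Prop) [DecidablePred p]
    [DecidablePred fun A : Finset α => ∀ s ∈ A, p s] [Decidable (∀ s, ¬ p s)] :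
    ∑ A : Finset α, (if ∀ s ∈ A, p s then (-1 : ℂ) ^ A.card else 0) = if ∀ s, ¬ p s then 1 else 0 := by
  classical
  have hset : (univ.filter fun A : Finset α => ∀ s ∈ A, p s) = (univ.filter p).powerset := by
    ext A; simp [subset_iff]
  rw [← sum_filter, hset]
  have key := congrArg (Int.cast : ℤ → ℂ) (sum_powerset_neg_one_pow_card (x := univ.filter p))
  push_cast at key
  rw [key]
  by_cases hh : ∀ s, ¬ p s
  · rw [if_pos hh, if_pos (filter_eq_empty_iff.2 fun x _ => hh x)]
  · rw [if_neg hh, if_neg]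
    exact fun he => hh fun s => filter_eq_empty_iff.1 he (mem_univ s)

theorem isGeneralizedCharacter_St : IsGeneralizedCharacter G (St P) := by
  letI := Fintype.ofFinite P.S
  have e : St P = ∑ A : Finset P.S, (((-1 : ℤ) ^ A.card : ℤ) : ℂ) • fixedPointCharacter (parab P (A : Set P.S)) := by
    funext g; simp [St, Finset.sum_apply]
  rw [e]
  exact IsGeneralizedCharacter.sum _ fun A _ =>
    IsGeneralizedCharacter.intCast_smul (isGeneralizedCharacter_of_isCharacter (isCharacter_fixedPoints _)) _

/-- The inner product of two parabolic permutation characters counts double cosets. -/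
theorem classInner_parab [Fintype G] (H K : Subgroup G) :
    classInner (fixedPointCharacter H) (fixedPointCharacter K) =
      (Nat.card (DoubleCoset.Quotient (H : Set G) K) : ℂ) := by
  classical
  have h1 : classInner (fixedPointCharacter H) (fixedPointCharacter K) =
      classInner (fun g => (Nat.card (MulAction.fixedBy ((G ⧸ H) × (G ⧸ K)) g) : ℂ)) (1 : G → ℂ) := by
    simp only [classInner, fixedPointCharacter, Pi.one_apply, map_one, mul_one, map_natCast]
    congr 1
    refine sum_congr rfl fun g _ => ?_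
    rw [← Nat.cast_mul, ← Nat.card_prod]
    congr 1
    refine Nat.card_congr
      { toFun := fun z => ⟨(z.1.1, z.2.1), Prod.ext z.1.2 z.2.2⟩
        invFun := fun z => (⟨z.1.1, congrArg Prod.fst z.2⟩, ⟨z.1.2, congrArg Prod.snd z.2⟩)
        left_inv := fun _ => rfl
        right_inv := fun _ => rfl }
  rw [h1, classInner_fixedPoints_one]
  congr 1
  refine (Nat.card_congr (Equiv.ofBijective
    (fun q : DoubleCoset.Quotient (H : Set G) K => Quotient.liftOn' q
      (fun g => (Quotient.mk'' ((((1 : G) : G ⧸ H)), (g : G ⧸ K)) : MulAction.orbitRel.Quotient G ((G ⧸ H) × (G ⧸ K))))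
      (fun a b hab => by
        obtain ⟨h, hh, k, hk, rfl⟩ := DoubleCoset.rel_iff.1 hab
        refine (Quotient.sound' ?_).symm
        rw [MulAction.orbitRel_apply]
        refine ⟨h, Prod.ext ?_ ?_⟩
        · show ((h * 1 : G) : G ⧸ H) = ((1 : G) : G ⧸ H)
          exact QuotientGroup.eq.2 (by simpa using hh)
        · show ((h * a : G) : G ⧸ K) = ((h * a * k : G) : G ⧸ K)
          exact QuotientGroup.eq.2 (by simpa [mul_assoc] using hk))) ⟨?_, ?_⟩)).symm
  · intro q q'
    refine Quotient.inductionOn₂' q q' fun a b hab => Quotient.sound' ?_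
    have hab' := Quotient.exact' hab
    rw [MulAction.orbitRel_apply] at hab'
    obtain ⟨h, hh⟩ := hab'
    have e1 : ((h * 1 : G) : G ⧸ H) = ((1 : G) : G ⧸ H) := congrArg Prod.fst hh
    have e2 : ((h * b : G) : G ⧸ K) = (a : G ⧸ K) := congrArg Prod.snd hh
    rw [mul_one, QuotientGroup.eq, mul_one] at e1
    rw [QuotientGroup.eq] at e2
    exact DoubleCoset.rel_iff.2 ⟨h⁻¹, e1, ((h * b)⁻¹ * a)⁻¹, inv_mem e2, by group⟩
  · intro o
    refine Quotient.inductionOn' o fun z => ?_
    obtain ⟨x, y⟩ := z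
    induction x using QuotientGroup.induction_on with
    | H a =>
      induction y using QuotientGroup.induction_on with
      | H b =>
        refine ⟨DoubleCoset.mk H K (a⁻¹ * b), Quotient.sound' ?_⟩
        rw [MulAction.orbitRel_apply]
        exact ⟨a⁻¹, by simp [Prod.ext_iff, MulAction.Quotient.smul_coe]⟩

open scoped Classical in
theorem classInner_St [Fintype G] : classInner (St P) (St P) = 1 := by
  letI := Fintype.ofFinite P.S
  letI := Fintype.ofFinite (Weyl P)
  have h1 : classInner (St P) (St P) = ∑ A : Finset P.S, ∑ B : Finset P.S,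
      (-1 : ℂ) ^ A.card * (-1 : ℂ) ^ B.card *
        classInner (fixedPointCharacter (parab P (A : Set P.S))) (fixedPointCharacter (parab P (B : Set P.S))) := by
    simp only [classInner, St, map_sum, map_mul, map_pow, map_neg, map_one, Finset.mul_sum, Finset.sum_mul]
    rw [Finset.sum_comm]
    conv_lhs => enter [2, x]; rw [Finset.sum_comm]
    rw [Finset.sum_comm]
    refine sum_congr rfl fun A _ => sum_congr rfl fun B _ => sum_congr rfl fun g _ => ?_
    ring
  obtain ⟨w₀, hL₀, hR₀⟩ := (hasExchange P).exists_full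
  have h2 : ∀ A B : Finset P.S,
      classInner (fixedPointCharacter (parab P (A : Set P.S))) (fixedPointCharacter (parab P (B : Set P.S))) =
        ∑ m : Weyl P, (if ∀ s ∈ A, ¬ LeftDesc (sigma P) s m then 1 else 0) *
          (if ∀ s ∈ B, ¬ RightDesc (sigma P) s m then 1 else 0) := by
    intro A B
    rw [classInner_parab, ← Nat.card_congr (dcEquiv P (A : Set P.S) (B : Set P.S)), Nat.card_eq_fintype_card,
      Fintype.card_subtype, ← Finset.sum_boole]
    refine sum_congr rfl fun m _ => ?_
    unfold IsMinRep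
    simp only [Finset.mem_coe]
    by_cases hA : ∀ s ∈ A, ¬ LeftDesc (sigma P) s m
    · by_cases hB : ∀ s ∈ B, ¬ RightDesc (sigma P) s m
      · rw [if_pos hA, if_pos hB, if_pos ⟨hA, hB⟩, one_mul]
      · rw [if_pos hA, if_neg hB, if_neg fun h => hB h.2, mul_zero]
    · rw [if_neg hA, zero_mul, if_neg fun h => hA h.1]
  rw [h1]
  simp only [h2, Finset.mul_sum]
  conv_lhs => enter [2, A]; rw [Finset.sum_comm]
  rw [Finset.sum_comm]
  calc ∑ m : Weyl P, ∑ A : Finset P.S, ∑ B : Finset P.S, (-1 : ℂ) ^ A.card * (-1 : ℂ) ^ B.card *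
        ((if ∀ s ∈ A, ¬ LeftDesc (sigma P) s m then 1 else 0) * (if ∀ s ∈ B, ¬ RightDesc (sigma P) s m then 1 else 0))
      = ∑ m : Weyl P, (∑ A : Finset P.S, if ∀ s ∈ A, ¬ LeftDesc (sigma P) s m then (-1 : ℂ) ^ A.card else 0) *
          (∑ B : Finset P.S, if ∀ s ∈ B, ¬ RightDesc (sigma P) s m then (-1 : ℂ) ^ B.card else 0) := by
        refine sum_congr rfl fun m _ => ?_
        rw [Finset.sum_mul_sum]
        refine sum_congr rfl fun A _ => sum_congr rfl fun B _ => ?_
        split_ifs <;> simp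
    _ = ∑ m : Weyl P, if m = w₀ then (1 : ℂ) else 0 := by
        refine sum_congr rfl fun m _ => ?_
        rw [sum_neg_one_pow_ite (fun s => ¬ LeftDesc (sigma P) s m),
          sum_neg_one_pow_ite (fun s => ¬ RightDesc (sigma P) s m)]
        simp only [not_not]
        by_cases hm : m = w₀
        · subst hm; rw [if_pos hL₀, if_pos hR₀, if_pos rfl, one_mul]
        · rw [if_neg (fun hl => hm ((hasExchange P).eq_of_forall_leftDesc hl hL₀)), zero_mul, if_neg hm]
    _ = 1 := by simp

/-- The longest element. -/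
noncomputable def w0 : Weyl P := (hasExchange P).exists_full.choose

theorem w0_rightDesc (s : P.S) : RightDesc (sigma P) s (w0 P) := (hasExchange P).exists_full.choose_spec.2 s

theorem eq_w0 {w : Weyl P} (hw : ∀ s, RightDesc (sigma P) s w) : w = w0 P :=
  (hasExchange P).eq_of_forall_rightDesc hw (w0_rightDesc P)

/-- The big cell in `G/B`. -/
def bigCell : Set (G ⧸ P.B) := {x | cellW P (Quotient.out x) = w0 P}

theorem mem_bigCell {g : G} : (g : G ⧸ P.B) ∈ bigCell P ↔ g ∈ C P (w0 P) := by
  rw [bigCell, Set.mem_ofPred_eq, cellW_out]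
  exact ⟨fun h => h ▸ mem_cellW P g, cellW_eq P⟩

theorem bigCell_nonempty : (bigCell P).Nonempty := by
  obtain ⟨g, hg⟩ := C_nonempty P (w0 P)
  exact ⟨(g : G ⧸ P.B), (mem_bigCell P).2 hg⟩

open scoped Classical in
/-- The value on `B`. -/
theorem St_apply_of_mem_B {b : G} (hb : b ∈ P.B) :
    St P b = (Nat.card {x : G ⧸ P.B // x ∈ bigCell P ∧ b • x = x} : ℂ) := by
  letI := Fintype.ofFinite P.S
  letI := Fintype.ofFinite (G ⧸ P.B)
  have hfix : ∀ A : Finset P.S, fixedPointCharacter (parab P (A : Set P.S)) b =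
      ∑ x ∈ univ.filter (fun x : G ⧸ P.B => b • x = x),
        if ∀ s ∈ A, ¬ RightDesc (sigma P) s (cellW P (Quotient.out x)) then 1 else 0 := by
    intro A
    rw [fixedPointCharacter, card_fixedBy_parab P _ hb, Nat.card_eq_fintype_card, Fintype.card_subtype,
      Finset.sum_boole, Finset.filter_filter]
    congr 2
    ext x
    simp [minCells, IsMinRep, and_comm]
  simp only [St, hfix, Finset.mul_sum]
  rw [Finset.sum_comm]
  have key : ∀ x : G ⧸ P.B, ∑ A : Finset P.S, (-1 : ℂ) ^ A.card *
      (if ∀ s ∈ A, ¬ RightDesc (sigma P) s (cellW P (Quotient.out x)) then 1 else 0) =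
      if x ∈ bigCell P then 1 else 0 := by
    intro x
    simp only [mul_ite, mul_one, mul_zero]
    rw [sum_neg_one_pow_ite (fun s => ¬ RightDesc (sigma P) s (cellW P (Quotient.out x)))]
    simp only [not_not]
    by_cases hx : x ∈ bigCell P
    · rw [if_pos hx, if_pos]
      intro s
      rw [show cellW P (Quotient.out x) = w0 P from hx]
      exact w0_rightDesc P s
    · rw [if_neg hx, if_neg]
      exact fun h => hx (eq_w0 P h)
  simp only [key]
  rw [Finset.sum_boole, Finset.filter_filter, Nat.card_eq_fintype_card, Fintype.card_subtype]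
  congr 2
  ext x; simp [and_comm]

theorem St_one : St P 1 = (Nat.card (bigCell P) : ℂ) := by
  rw [St_apply_of_mem_B P (one_mem _)]
  congr 1
  exact Nat.card_congr (Equiv.subtypeEquivRight fun x => by simp)

/-- The Steinberg character is irreducible. -/
theorem isIrrCharacter_St : IsIrrCharacter G (St P) := by
  letI := Fintype.ofFinite G
  obtain ⟨χ, hχ, h | h⟩ := IsGeneralizedCharacter.exists_irr_of_norm_one (isGeneralizedCharacter_St P)
    (classInner_St P)
  · rwa [h]
  · exfalso
    obtain ⟨d, -, hd⟩ := IsIrrCharacter.exists_degree hχ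
    have h1 := congrFun h 1
    rw [St_one, Pi.neg_apply, hd, eq_neg_iff_add_eq_zero, ← Nat.cast_add, Nat.cast_eq_zero,
      add_eq_zero] at h1
    haveI : Nonempty (bigCell P) := (bigCell_nonempty P).to_subtype
    exact Nat.card_pos.ne' h1.1

/-- If `U ≤ B` acts regularly on the big cell: degree and vanishing. -/
theorem St_of_regular (U : Subgroup G) (hU : U ≤ P.B) {n : G} (hn : n ∈ C P (w0 P))
    (hgen : ∀ b ∈ P.B, ∃ u ∈ U, (b * n)⁻¹ * (u * n) ∈ P.B)
    (hfree : ∀ u ∈ U, n⁻¹ * u * n ∈ P.B → u = 1) :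
    St P 1 = (Nat.card U : ℂ) ∧ ∀ u ∈ U, u ≠ 1 → St P u = 0 := by
  have hmem : ∀ u : U, ((u * n : G) : G ⧸ P.B) ∈ bigCell P := fun u =>
    (mem_bigCell P).2 (mul_mem_C_left P (hU u.2) hn)
  have hbij : Function.Bijective (fun u : U => (⟨_, hmem u⟩ : bigCell P)) := by
    constructor
    · intro u v h
      have h' : ((u * n : G) : G ⧸ P.B) = ((v * n : G) : G ⧸ P.B) := congrArg Subtype.val h
      rw [QuotientGroup.eq] at h'
      refine Subtype.ext (inv_mul_eq_one.1 (hfree _ (mul_mem (inv_mem u.2) v.2) ?_))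
      simpa [mul_assoc] using h'
    · rintro ⟨x, hx⟩
      induction x using QuotientGroup.induction_on with
      | H g =>
        have hg := (mem_bigCell P).1 hx
        have hn' := hn
        rw [← QuotientGroup.out_eq' (w0 P)] at hg hn'
        obtain ⟨a, ha, a', ha', rfl⟩ := (mem_C_mk P).1 hg
        obtain ⟨c, hc, c', hc', rfl⟩ := (mem_C_mk P).1 hn'
        obtain ⟨u, hu, he⟩ := hgen (a * c⁻¹) (mul_mem ha (inv_mem hc))
        refine ⟨⟨u, hu⟩, Subtype.ext ((QuotientGroup.eq).2 ?_).symm⟩
        rw [show (a * ((w0 P).out : G) * a')⁻¹ * (u * (c * ((w0 P).out : G) * c')) =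
          a'⁻¹ * c' * ((a * c⁻¹ * (c * ((w0 P).out : G) * c'))⁻¹ * (u * (c * ((w0 P).out : G) * c'))) by group]
        exact mul_mem (mul_mem (inv_mem ha') hc') he
  refine ⟨by rw [St_one, Nat.card_congr (Equiv.ofBijective _ hbij)], fun u hu hu1 => ?_⟩
  rw [St_apply_of_mem_B P (hU hu), Nat.cast_eq_zero, Nat.card_eq_zero]
  refine Or.inl ⟨fun ⟨x, hx, hfix⟩ => hu1 ?_⟩
  obtain ⟨v, hv⟩ := hbij.2 ⟨x, hx⟩
  have hv' : ((v * n : G) : G ⧸ P.B) = x := congrArg Subtype.val hv
  subst hv'
  rw [MulAction.Quotient.smul_coe, smul_eq_mul, QuotientGroup.eq] at hfix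
  have h1 := hfree ((v : G)⁻¹ * u⁻¹ * v) (mul_mem (mul_mem (inv_mem v.2) (inv_mem hu)) v.2)
    (by simpa [mul_assoc] using hfix)
  have h2 : u⁻¹ = 1 := by
    calc u⁻¹ = (v : G) * ((v : G)⁻¹ * u⁻¹ * v) * (v : G)⁻¹ := by group
      _ = 1 := by rw [h1]; group
  simpa using h2

end Cfsg.Agent.BN
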