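import Cfsg.Agent.EqLemmas

/-!
# Groups generated by involutions with the exchange condition

For `σ : S → W` with `σ s * σ s = 1`, generating `W`:
* `wprod σ l`, `wlen σ w`, `IsReduced σ l`;
* `HasExchange σ` : involutions, generation, injectivity, exchange condition;
* deletion (`HasExchange.exists_reduced_sublist`), letters of reduced words of elements of
  special subgroups (`HasExchange.reduced_letters_mem`), `HasExchange.sigma_mem_iff`.
-/

set_option autoImplicit false

namespace Cfsg.Agent.BN

variable {S W : Type*} [Group W]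

/-- Product of a word. -/
def wprod (σ : S → W) (l : List S) : W := (l.map σ).prod

/-- Minimal length of a word with product `w` (junk `0` if none exists). -/
noncomputable def wlen (σ : S → W) (w : W) : ℕ := sInf {k | ∃ l : List S, l.length = k ∧ wprod σ l = w}

/-- A word of minimal length among those with the same product. -/
def IsReduced (σ : S → W) (l : List S) : Prop := wlen σ (wprod σ l) = l.length

variable {σ : S → W}

@[simp] lemma wprod_nil : wprod σ [] = 1 := rfl
@[simp] lemma wprod_cons (s : S) (l : List S) : wprod σ (s :: l) = σ s * wprod σ l := rfl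
@[simp] lemma wprod_append (l l' : List S) : wprod σ (l ++ l') = wprod σ l * wprod σ l' := by
  simp [wprod]

lemma wlen_le (l : List S) : wlen σ (wprod σ l) ≤ l.length := Nat.sInf_le ⟨l, rfl, rfl⟩

lemma wlen_le' {w : W} (l : List S) (h : wprod σ l = w) : wlen σ w ≤ l.length := h ▸ wlen_le l

@[simp] lemma wlen_one : wlen σ (1 : W) = 0 := Nat.le_zero.1 (wlen_le' [] rfl)

lemma isReduced_nil : IsReduced σ ([] : List S) := by simp [IsReduced]

section invol

variable (hsq : ∀ s, σ s * σ s = 1) (hgen : Subgroup.closure (Set.range σ) = ⊤)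
include hsq

lemma sigma_inv (s : S) : (σ s)⁻¹ = σ s := inv_eq_of_mul_eq_one_right (hsq s)

lemma sigma_mul_cancel (s : S) (w : W) : σ s * (σ s * w) = w := by rw [← mul_assoc, hsq, one_mul]

lemma mul_sigma_cancel (s : S) (w : W) : w * σ s * σ s = w := by rw [mul_assoc, hsq, mul_one]

lemma wprod_reverse (l : List S) : wprod σ l.reverse = (wprod σ l)⁻¹ := by
  induction l with
  | nil => simp
  | cons a l ih => simp [ih, sigma_inv hsq]

lemma mem_closure_image_iff (K : Set S) (w : W) :
    w ∈ Subgroup.closure (σ '' K) ↔ ∃ l : List S, (∀ s ∈ l, s ∈ K) ∧ wprod σ l = w := by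
  constructor
  · intro hw
    induction hw using Subgroup.closure_induction with
    | mem x hx =>
      obtain ⟨s, hs, rfl⟩ := hx
      exact ⟨[s], by simpa using hs, by simp⟩
    | one => exact ⟨[], by simp, rfl⟩
    | mul x y _ _ hx hy =>
      obtain ⟨l, hl, rfl⟩ := hx
      obtain ⟨l', hl', rfl⟩ := hy
      exact ⟨l ++ l', by simpa [or_imp, forall_and] using ⟨hl, hl'⟩, wprod_append l l'⟩
    | inv x _ hx =>
      obtain ⟨l, hl, rfl⟩ := hx
      exact ⟨l.reverse, by simpa using hl, wprod_reverse hsq l⟩
  · rintro ⟨l, hl, rfl⟩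
    induction l with
    | nil => exact one_mem _
    | cons a l ih =>
      exact mul_mem (Subgroup.subset_closure ⟨a, hl a (by simp), rfl⟩)
        (ih fun s hs => hl s (List.mem_cons_of_mem _ hs))

include hgen

lemma exists_word (w : W) : ∃ l : List S, wprod σ l = w := by
  have h : w ∈ Subgroup.closure (σ '' Set.univ) := by
    rw [Set.image_univ, hgen]; trivial
  obtain ⟨l, -, hl⟩ := (mem_closure_image_iff hsq _ w).1 h
  exact ⟨l, hl⟩

lemma exists_reduced (w : W) : ∃ l : List S, l.length = wlen σ w ∧ wprod σ l = w := by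
  obtain ⟨l, hl⟩ := exists_word hsq hgen w
  exact Nat.sInf_mem (s := {k | ∃ l' : List S, l'.length = k ∧ wprod σ l' = w}) ⟨l.length, l, rfl, hl⟩

lemma exists_isReduced (w : W) : ∃ l : List S, IsReduced σ l ∧ wprod σ l = w := by
  obtain ⟨l, h1, h2⟩ := exists_reduced hsq hgen w
  exact ⟨l, by rw [IsReduced, h2, h1], h2⟩

lemma wlen_eq_zero {w : W} (h : wlen σ w = 0) : w = 1 := by
  obtain ⟨l, h1, h2⟩ := exists_reduced hsq hgen w
  rw [h, List.length_eq_zero_iff] at h1
  simpa [h1] using h2.symm

lemma wlen_inv (w : W) : wlen σ w⁻¹ = wlen σ w := by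
  have key : ∀ v : W, wlen σ v⁻¹ ≤ wlen σ v := fun v => by
    obtain ⟨l, h1, h2⟩ := exists_reduced hsq hgen v
    exact (wlen_le' l.reverse (by rw [wprod_reverse hsq, h2])).trans (by simp [h1])
  exact le_antisymm (key w) (by simpa using key w⁻¹)

lemma wlen_mul_le (v w : W) : wlen σ (v * w) ≤ wlen σ v + wlen σ w := by
  obtain ⟨l, h1, h2⟩ := exists_reduced hsq hgen v
  obtain ⟨l', h1', h2'⟩ := exists_reduced hsq hgen w
  exact (wlen_le' (l ++ l') (by rw [wprod_append, h2, h2'])).trans (by simp [h1, h1'])

omit hsq hgen in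
lemma wlen_sigma_le (s : S) : wlen σ (σ s) ≤ 1 := wlen_le' [s] (by simp)

lemma wlen_sigma_mul_le (s : S) (w : W) : wlen σ (σ s * w) ≤ wlen σ w + 1 :=
  ((wlen_mul_le hsq hgen _ _).trans (Nat.add_le_add_right (wlen_sigma_le s) _)).trans
    (by omega)

lemma le_wlen_sigma_mul (s : S) (w : W) : wlen σ w ≤ wlen σ (σ s * w) + 1 := by
  simpa [sigma_mul_cancel hsq] using wlen_sigma_mul_le hsq hgen s (σ s * w)

lemma wlen_mul_sigma_le (s : S) (w : W) : wlen σ (w * σ s) ≤ wlen σ w + 1 :=
  (wlen_mul_le hsq hgen _ _).trans (Nat.add_le_add_left (wlen_sigma_le s) _)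

lemma le_wlen_mul_sigma (s : S) (w : W) : wlen σ w ≤ wlen σ (w * σ s) + 1 := by
  simpa [mul_sigma_cancel hsq] using wlen_mul_sigma_le hsq hgen s (w * σ s)

lemma IsReduced.tail {s : S} {l : List S} (h : IsReduced σ (s :: l)) : IsReduced σ l := by
  have h1 := wlen_le (σ := σ) l
  have h2 := wlen_sigma_mul_le hsq hgen s (wprod σ l)
  simp only [IsReduced, wprod_cons, List.length_cons] at *
  omega

lemma IsReduced.append_left {l l' : List S} (h : IsReduced σ (l ++ l')) : IsReduced σ l := by
  have h1 := wlen_le (σ := σ) l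
  have h2 := wlen_le (σ := σ) l'
  have h3 := wlen_mul_le hsq hgen (wprod σ l) (wprod σ l')
  simp only [IsReduced, wprod_append, List.length_append] at *
  omega

lemma IsReduced.append_right {l l' : List S} (h : IsReduced σ (l ++ l')) : IsReduced σ l' := by
  have h1 := wlen_le (σ := σ) l
  have h2 := wlen_le (σ := σ) l'
  have h3 := wlen_mul_le hsq hgen (wprod σ l) (wprod σ l')
  simp only [IsReduced, wprod_append, List.length_append] at *
  omega

lemma IsReduced.take {l : List S} (h : IsReduced σ l) (i : ℕ) : IsReduced σ (l.take i) := by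
  rw [← List.take_append_drop i l] at h
  exact h.append_left hsq hgen

end invol

/-- `σ` maps `S` injectively onto generating involutions satisfying the exchange condition. -/
structure HasExchange (σ : S → W) : Prop where
  sq : ∀ s, σ s * σ s = 1
  gen : Subgroup.closure (Set.range σ) = ⊤
  inj : Function.Injective σ
  exch : ∀ (l : List S) (s : S), IsReduced σ l → wlen σ (σ s * wprod σ l) ≤ l.length →
    ∃ i < l.length, σ s * wprod σ l = wprod σ (l.eraseIdx i)

namespace HasExchange

variable (h : HasExchange σ)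
include h

lemma ne_one (s : S) : σ s ≠ 1 := by
  intro hs
  obtain ⟨i, hi, -⟩ := h.exch [] s isReduced_nil (by simp [hs])
  simp at hi

lemma wlen_sigma (s : S) : wlen σ (σ s) = 1 := by
  refine le_antisymm (wlen_sigma_le s) (Nat.one_le_iff_ne_zero.2 fun h0 => ?_)
  exact h.ne_one s (wlen_eq_zero h.sq h.gen h0)

lemma wlen_sigma_mul_ne (s : S) (w : W) : wlen σ (σ s * w) ≠ wlen σ w := by
  intro he
  obtain ⟨l, hl, rfl⟩ := exists_isReduced h.sq h.gen w
  obtain ⟨i, hi, e⟩ := h.exch l s hl (by rw [he, hl])
  have := wlen_le' (σ := σ) (l.eraseIdx i) e.symm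
  rw [he, hl, List.length_eraseIdx_of_lt hi] at this
  omega

lemma wlen_sigma_mul_cases (s : S) (w : W) :
    wlen σ (σ s * w) = wlen σ w + 1 ∨ wlen σ (σ s * w) + 1 = wlen σ w := by
  have := wlen_sigma_mul_le h.sq h.gen s w
  have := le_wlen_sigma_mul h.sq h.gen s w
  have := h.wlen_sigma_mul_ne s w
  omega

/-- Deletion condition. -/
lemma exists_reduced_sublist (l : List S) :
    ∃ k : List S, k.Sublist l ∧ IsReduced σ k ∧ wprod σ k = wprod σ l := by
  induction l with
  | nil => exact ⟨[], List.Sublist.refl _, isReduced_nil, rfl⟩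
  | cons s l ih =>
    obtain ⟨k, hsub, hk, he⟩ := ih
    rcases h.wlen_sigma_mul_cases s (wprod σ k) with hc | hc
    · refine ⟨s :: k, hsub.cons_cons s, ?_, by simp [he]⟩
      simp only [IsReduced, wprod_cons, List.length_cons] at *
      omega
    · obtain ⟨i, hi, e⟩ := h.exch k s hk (by simp only [IsReduced] at hk; omega)
      refine ⟨k.eraseIdx i, ((List.eraseIdx_sublist k i).trans hsub).cons _, ?_, by
        rw [← e, wprod_cons, he]⟩
      simp only [IsReduced] at hk ⊢
      rw [← e, List.length_eraseIdx_of_lt hi]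
      omega

/-- A generator lies in a special subgroup only if it is one of its generators. -/
lemma sigma_mem_iff (K : Set S) (s : S) : σ s ∈ Subgroup.closure (σ '' K) ↔ s ∈ K := by
  refine ⟨fun hs => ?_, fun hs => Subgroup.subset_closure ⟨s, hs, rfl⟩⟩
  obtain ⟨l, hl, he⟩ := (mem_closure_image_iff h.sq K _).1 hs
  obtain ⟨k, hsub, hk, hek⟩ := h.exists_reduced_sublist l
  have hlen : k.length = 1 := by
    have := h.wlen_sigma s
    rw [IsReduced, hek, he, this] at hk
    exact hk.symm
  obtain ⟨t, rfl⟩ := List.length_eq_one_iff.1 hlen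
  have : t = s := h.inj (by simpa [he] using hek)
  exact this ▸ hl t (hsub.subset (by simp))

/-- Every reduced word of an element of a special subgroup only uses its generators. -/
lemma reduced_letters_mem (K : Set S) {l : List S} (hl : IsReduced σ l)
    (hw : wprod σ l ∈ Subgroup.closure (σ '' K)) : ∀ s ∈ l, s ∈ K := by
  induction l with
  | nil => simp
  | cons a l ih =>
    obtain ⟨m, hm, he⟩ := (mem_closure_image_iff h.sq K _).1 hw
    obtain ⟨k, hsub, hk, hek⟩ := h.exists_reduced_sublist m
    have hkK : ∀ s ∈ k, s ∈ K := fun s hs => hm s (hsub.subset hs)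
    have hkw : wprod σ k = σ a * wprod σ l := by rw [hek, he, wprod_cons]
    have hklen : k.length = l.length + 1 := by
      have h2 := hl
      rw [IsReduced, wprod_cons, ← hkw, hk, List.length_cons] at h2
      exact h2
    have hle : wlen σ (σ a * wprod σ k) ≤ k.length := by
      rw [hkw, sigma_mul_cancel h.sq]
      exact (wlen_le l).trans (by omega)
    obtain ⟨i, -, e⟩ := h.exch k a hk hle
    rw [hkw, sigma_mul_cancel h.sq] at e
    have hlK : wprod σ l ∈ Subgroup.closure (σ '' K) :=
      (mem_closure_image_iff h.sq K _).2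
        ⟨_, fun s hs => hkK s ((List.eraseIdx_sublist k i).subset hs), e.symm⟩
    have ha : a ∈ K := by
      refine (h.sigma_mem_iff K a).1 ?_
      have := mul_mem hw (inv_mem hlK)
      simpa using this
    intro s hs
    rcases List.mem_cons.1 hs with rfl | hs
    · exact ha
    · exact ih (hl.tail h.sq h.gen) hlK s hs

lemma closure_inf_closure (J K : Set S) :
    Subgroup.closure (σ '' J) ⊓ Subgroup.closure (σ '' K) = Subgroup.closure (σ '' (J ∩ K)) := by
  refine le_antisymm (fun w hw => ?_) (le_inf
    (Subgroup.closure_mono (Set.image_mono Set.inter_subset_left))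
    (Subgroup.closure_mono (Set.image_mono Set.inter_subset_right)))
  obtain ⟨l, hl, rfl⟩ := exists_isReduced h.sq h.gen w
  exact (mem_closure_image_iff h.sq _ _).2
    ⟨l, fun s hs => ⟨h.reduced_letters_mem J hl hw.1 s hs, h.reduced_letters_mem K hl hw.2 s hs⟩, rfl⟩

end HasExchange

end Cfsg.Agent.BN
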