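import Cfsg.Agent.Lib.BN.Bruhat

/-!
# (B,N)-pairs: standard parabolic subgroups

* `subS P J`, `WJ P J`, `mem_parabolic_iff`, `C_subset_parabolic`;
* `letters_mem`, `mem_of_conj_le`, `eq_parabolic_of_le`;
* `parabolic_mono`, `parabolic_le_iff`, `parabolic_inf`.
-/

set_option autoImplicit false

namespace Cfsg.Agent.BN

variable {G : Type*} [Group G] (P : Cfsg.BNPair G)

/-- The generators of `P` lying in `J`. -/
def subS (J : Set G) : Set P.S := {s | (s : G) ∈ J}

/-- The special subgroup of `W` attached to `J`. -/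
def WJ (J : Set G) : Subgroup (Weyl P) := Subgroup.closure (sigma P '' subS P J)

lemma le_parabolic (J : Set G) : P.B ≤ P.parabolic J := le_sup_left

lemma subset_parabolic (J : Set G) : J ⊆ P.parabolic J := fun _ hx =>
  (le_sup_right : Subgroup.closure J ≤ P.parabolic J) (Subgroup.subset_closure hx)

lemma parabolic_mono {J K : Set G} (h : J ⊆ K) : P.parabolic J ≤ P.parabolic K :=
  sup_le_sup_left (Subgroup.closure_mono h) _

/-- A subgroup containing `B` and a point of `BwB` contains `BwB`. -/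
lemma C_subset_of_mem {M : Subgroup G} (hM : P.B ≤ M) {w : Weyl P} {g : G}
    (hg : g ∈ C P w) (hgM : g ∈ M) : C P w ⊆ M := by
  induction w using QuotientGroup.induction_on with
  | H n =>
    obtain ⟨b, hb, b', hb', rfl⟩ := (mem_C_mk P).1 hg
    have hn : (n : G) ∈ M := by
      have := mul_mem (mul_mem (inv_mem (hM hb)) hgM) (inv_mem (hM hb'))
      simpa [mul_assoc] using this
    intro x hx
    obtain ⟨c, hc, c', hc', rfl⟩ := (mem_C_mk P).1 hx
    exact mul_mem (mul_mem (hM hc) hn) (hM hc')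

lemma C_simple_subset {M : Subgroup G} (hM : P.B ≤ M) (s : P.S) :
    C P (sigma P s) ⊆ M ↔ (s : G) ∈ M :=
  ⟨fun h => h (self_mem_C P (P.subset s.2)),
    fun h => C_subset_of_mem P hM (self_mem_C P (P.subset s.2)) h⟩

lemma wprod_subset {M : Subgroup G} (hM : P.B ≤ M) {l : List P.S} (hl : ∀ s ∈ l, (s : G) ∈ M) :
    C P (wprod (sigma P) l) ⊆ M := by
  induction l with
  | nil => exact fun g hg => hM ((mem_C_one_iff P).1 hg)
  | cons s l ih =>
    intro g hg
    obtain ⟨x, hx, y, hy, rfl⟩ := exists_mul_eq P (v := sigma P s) hg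
    exact mul_mem ((C_simple_subset P hM s).2 (hl s (by simp)) hx)
      (ih (fun t ht => hl t (List.mem_cons_of_mem _ ht)) hy)

lemma exists_mem_closure {J : Set G} {w : Weyl P} (hw : w ∈ WJ P J) :
    ∃ n, ∃ hn : n ∈ P.N, n ∈ Subgroup.closure J ∧ wOf P hn = w := by
  obtain ⟨l, hl, rfl⟩ := (mem_closure_image_iff (sigma_sq P) _ _).1 hw
  clear hw
  induction l with
  | nil => exact ⟨1, one_mem _, one_mem _, rfl⟩
  | cons s l ih =>
    obtain ⟨n, hn, hnJ, he⟩ := ih fun t ht => hl t (List.mem_cons_of_mem _ ht)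
    exact ⟨(s : G) * n, mul_mem (P.subset s.2) hn,
      mul_mem (Subgroup.subset_closure (hl s (by simp))) hnJ,
      by rw [wOf_mul P (P.subset s.2) hn, he, wprod_cons, wOf_S]⟩

lemma mem_WJ_of_mem_closure {J : Set G} (hJ : J ⊆ P.S) {n : G} (hn : n ∈ Subgroup.closure J) :
    ∃ h : n ∈ P.N, wOf P h ∈ WJ P J := by
  induction hn using Subgroup.closure_induction with
  | mem x hx => exact ⟨P.subset (hJ hx), Subgroup.subset_closure ⟨⟨x, hJ hx⟩, hx, rfl⟩⟩
  | one => exact ⟨one_mem _, one_mem (WJ P J)⟩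
  | mul x y _ _ hx hy => exact ⟨mul_mem hx.1 hy.1, mul_mem hx.2 hy.2⟩
  | inv x _ hx => exact ⟨inv_mem hx.1, inv_mem hx.2⟩

lemma C_subset_parabolic {J : Set G} {w : Weyl P} (hw : w ∈ WJ P J) : C P w ⊆ P.parabolic J := by
  obtain ⟨l, hl, rfl⟩ := (mem_closure_image_iff (sigma_sq P) _ _).1 hw
  exact wprod_subset P (le_parabolic P J) fun s hs => subset_parabolic P J (hl s hs)

/-- `B W_J B` is closed under multiplication. -/
lemma mul_mem_union_WJ {J : Set G} {v w : Weyl P} {x y : G} (hv : v ∈ WJ P J) (hw : w ∈ WJ P J)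
    (hx : x ∈ C P v) (hy : y ∈ C P w) : ∃ u ∈ WJ P J, x * y ∈ C P u := by
  obtain ⟨l, hl, rfl⟩ := (mem_closure_image_iff (sigma_sq P) _ _).1 hv
  clear hv
  induction l generalizing w x y with
  | nil => exact ⟨w, hw, mul_mem_C_left P ((mem_C_one_iff P).1 hx) hy⟩
  | cons s l ih =>
    obtain ⟨x₁, hx₁, x₂, hx₂, rfl⟩ := exists_mul_eq P (v := sigma P s) hx
    obtain ⟨u, hu, hxy⟩ := ih hw hy (fun t ht => hl t (List.mem_cons_of_mem _ ht)) hx₂
    rw [mul_assoc]
    rcases mul_left_simple P s hx₁ hxy with h1 | h1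
    · exact ⟨_, mul_mem (Subgroup.subset_closure ⟨s, hl s (by simp), rfl⟩) hu, h1⟩
    · exact ⟨u, hu, h1⟩

lemma mem_parabolic_iff {J : Set G} (hJ : J ⊆ P.S) {g : G} :
    g ∈ P.parabolic J ↔ ∃ w ∈ WJ P J, g ∈ C P w := by
  refine ⟨fun hg => ?_, fun ⟨w, hw, hgw⟩ => C_subset_parabolic P hw hgw⟩
  rw [Cfsg.BNPair.parabolic, Subgroup.sup_eq_closure] at hg
  induction hg using Subgroup.closure_induction with
  | mem x hx =>
    rcases hx with hx | hx
    · exact ⟨1, one_mem _, (mem_C_one_iff P).2 hx⟩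
    · obtain ⟨h, hw⟩ := mem_WJ_of_mem_closure P hJ hx
      exact ⟨_, hw, self_mem_C P h⟩
  | one => exact ⟨1, one_mem _, (mem_C_one_iff P).2 (one_mem _)⟩
  | mul x y _ _ hx hy =>
    obtain ⟨v, hv, hxv⟩ := hx
    obtain ⟨w, hw, hyw⟩ := hy
    exact mul_mem_union_WJ P hv hw hxv hyw
  | inv x _ hx =>
    obtain ⟨v, hv, hxv⟩ := hx
    exact ⟨_, inv_mem hv, inv_mem_C P hxv⟩

lemma mem_WJ_of_mem_C {J : Set G} (hJ : J ⊆ P.S) {w : Weyl P} {g : G} (hg : g ∈ C P w)
    (hgP : g ∈ P.parabolic J) : w ∈ WJ P J := by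
  obtain ⟨v, hv, hgv⟩ := (mem_parabolic_iff P hJ).1 hgP
  rwa [C_unique P hg hgv]

/-- The first letter of a reduced word lies in every subgroup containing `B` and `n B n⁻¹`. -/
lemma head_mem {M : Subgroup G} (hM : P.B ≤ M) {s : P.S} {l : List P.S}
    (hl : IsReduced (sigma P) (s :: l))
    {g : G} (hg : g ∈ C P (wprod (sigma P) (s :: l))) (hconj : ∀ b ∈ P.B, g * b * g⁻¹ ∈ M) :
    (s : G) ∈ M := by
  have hlt : len P (sigma P s * wprod (sigma P) (s :: l)) < len P (wprod (sigma P) (s :: l)) := by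
    have := wlen_le (σ := sigma P) l
    simp only [len, IsReduced, wprod_cons, sigma_mul_cancel (sigma_sq P), List.length_cons] at *
    omega
  obtain ⟨x, y, hx, hy, hxy⟩ := descent P s hlt
  refine (C_simple_subset P hM s).1 (C_subset_of_mem P hM hx ?_)
  generalize wprod (sigma P) (s :: l) = w at hg hy hxy
  induction w using QuotientGroup.induction_on with
  | H n =>
    obtain ⟨a, ha, a', ha', rfl⟩ := (mem_C_mk P).1 hg
    obtain ⟨c, hc, c', hc', rfl⟩ := (mem_C_mk P).1 hy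
    obtain ⟨d, hd, d', hd', he⟩ := (mem_C_mk P).1 hxy
    have hn : ∀ b ∈ P.B, (n : G) * b * (n : G)⁻¹ ∈ M := fun b hb => by
      have h1 := mul_mem (mul_mem (inv_mem (hM ha))
        (hconj _ (mul_mem (mul_mem (inv_mem ha') hb) ha'))) (hM ha)
      rwa [show a⁻¹ * (a * n * a' * (a'⁻¹ * b * a') * (a * n * a')⁻¹) * a = n * b * (n : G)⁻¹ by
        group] at h1
    have ex : x = d * ((n : G) * (d' * c'⁻¹) * (n : G)⁻¹) * c⁻¹ := by
      calc x = x * (c * n * c') * (c * n * c')⁻¹ := by group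
        _ = d * n * d' * (c * n * c')⁻¹ := by rw [he]
        _ = _ := by group
    rw [ex]
    exact mul_mem (mul_mem (hM hd) (hn _ (mul_mem hd' (inv_mem hc')))) (inv_mem (hM hc))

/-- All letters of a reduced word of `w` lie in every subgroup containing `B` and `g B g⁻¹`,
`g ∈ B w B`. -/
lemma letters_mem {M : Subgroup G} (hM : P.B ≤ M) {l : List P.S} (hl : IsReduced (sigma P) l)
    {g : G} (hg : g ∈ C P (wprod (sigma P) l)) (hconj : ∀ b ∈ P.B, g * b * g⁻¹ ∈ M) :
    ∀ s ∈ l, (s : G) ∈ M := by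
  induction l generalizing g with
  | nil => simp
  | cons s l ih =>
    have hs := head_mem P hM hl hg hconj
    obtain ⟨x, hx, y, hy, rfl⟩ := exists_mul_eq P (v := sigma P s) hg
    have hxM := (C_simple_subset P hM s).2 hs hx
    intro t ht
    rcases List.mem_cons.1 ht with rfl | ht
    · exact hs
    refine ih (hl.tail (sigma_sq P) (closure_sigma P)) hy (fun b hb => ?_) t ht
    have h1 := mul_mem (mul_mem (inv_mem hxM) (hconj b hb)) hxM
    rwa [show x⁻¹ * (x * y * b * (x * y)⁻¹) * x = y * b * y⁻¹ by group] at h1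

/-- `g B g⁻¹ ≤ M` and `B ≤ M` imply `g ∈ M`. -/
theorem mem_of_conj_le {M : Subgroup G} (hM : P.B ≤ M) {g : G}
    (hconj : ∀ b ∈ P.B, g * b * g⁻¹ ∈ M) : g ∈ M := by
  obtain ⟨w, hw⟩ := exists_mem_C P g
  obtain ⟨l, hl, rfl⟩ := exists_isReduced (sigma_sq P) (closure_sigma P) w
  exact wprod_subset P hM (letters_mem P hM hl hw hconj) hw

theorem eq_parabolic_of_le {M : Subgroup G} (hM : P.B ≤ M) :
    M = P.parabolic (P.S ∩ M) := by
  refine le_antisymm (fun g hg => ?_) (sup_le hM ((Subgroup.closure_le _).2 fun x hx => hx.2))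
  obtain ⟨w, hw⟩ := exists_mem_C P g
  obtain ⟨l, hl, rfl⟩ := exists_isReduced (sigma_sq P) (closure_sigma P) w
  have hs := letters_mem P hM hl hw fun b hb => mul_mem (mul_mem hg (hM hb)) (inv_mem hg)
  exact wprod_subset P (le_parabolic P _) (fun s h => subset_parabolic P _ (Set.mem_inter s.2 (hs s h))) hw

lemma mem_of_mem_parabolic {J : Set G} (hJ : J ⊆ P.S) (s : P.S) (hs : (s : G) ∈ P.parabolic J) :
    (s : G) ∈ J :=
  ((hasExchange P).sigma_mem_iff _ s).1 (mem_WJ_of_mem_C P hJ (self_mem_C P (P.subset s.2)) hs)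

theorem parabolic_le_iff {J K : Set G} (hJ : J ⊆ P.S) (hK : K ⊆ P.S) :
    P.parabolic J ≤ P.parabolic K ↔ J ⊆ K :=
  ⟨fun h x hx => mem_of_mem_parabolic P hK ⟨x, hJ hx⟩ (h (subset_parabolic P J hx)),
    parabolic_mono P⟩

theorem parabolic_inj {J K : Set G} (hJ : J ⊆ P.S) (hK : K ⊆ P.S)
    (h : P.parabolic J = P.parabolic K) : J = K :=
  Set.Subset.antisymm ((parabolic_le_iff P hJ hK).1 h.le) ((parabolic_le_iff P hK hJ).1 h.ge)

theorem parabolic_inf {J K : Set G} (hJ : J ⊆ P.S) (hK : K ⊆ P.S) :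
    P.parabolic J ⊓ P.parabolic K = P.parabolic (J ∩ K) := by
  refine le_antisymm (fun g hg => ?_) (le_inf (parabolic_mono P Set.inter_subset_left)
    (parabolic_mono P Set.inter_subset_right))
  obtain ⟨w, hw⟩ := exists_mem_C P g
  refine C_subset_parabolic P ?_ hw
  have h := (hasExchange P).closure_inf_closure (subS P J) (subS P K)
  rw [WJ, show subS P (J ∩ K) = subS P J ∩ subS P K from rfl, ← h]
  exact ⟨mem_WJ_of_mem_C P hJ hw hg.1, mem_WJ_of_mem_C P hK hw hg.2⟩

end Cfsg.Agent.BN
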