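import Cfsg.Agent.Lib.BN.Exchange

/-!
# (B,N)-pairs: Bruhat decomposition and the exchange condition

Everything is at the level of `W = Weyl P = N ⧸ T`, `T = (B ⊓ N).subgroupOf N`:
* `C P w` the double coset `B w B`; `mem_C_mk`, `mul_left_simple`, `exists_mem_C`, `C_unique`;
* `hasExchange P` : the exchange condition for `sigma P : P.S → Weyl P`;
* `mul_reduced`, `descent`.
-/

set_option autoImplicit false

namespace Cfsg.Agent.BN

variable {G : Type*} [Group G] (P : Cfsg.BNPair G)

/-- `B ⊓ N` as a subgroup of `N`. -/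
abbrev T : Subgroup P.N := (P.B ⊓ P.N).subgroupOf P.N

instance T_normal : (T P).Normal := by
  refine ⟨fun t ht n => ?_⟩
  rw [Subgroup.mem_subgroupOf] at ht ⊢
  exact ⟨by simpa using P.conj_mem n n.2 t ht, (n * t * n⁻¹ : P.N).2⟩

/-- The Weyl group. -/
abbrev Weyl : Type _ := P.N ⧸ T P

/-- The class in `W` of an element of `N`. -/
abbrev wOf {n : G} (hn : n ∈ P.N) : Weyl P := QuotientGroup.mk (⟨n, hn⟩ : P.N)

/-- The distinguished involutions in `W`. -/
def sigma (s : P.S) : Weyl P := QuotientGroup.mk (⟨(s : G), P.subset s.2⟩ : P.N)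

/-- The double coset `B w B`. -/
def C (w : Weyl P) : Set G := DoubleCoset.doubleCoset ((w.out : P.N) : G) (P.B : Set G) P.B

lemma mk_eq_iff {n n' : P.N} :
    (QuotientGroup.mk n : Weyl P) = QuotientGroup.mk n' ↔ (n : G)⁻¹ * n' ∈ P.B := by
  rw [QuotientGroup.eq, Subgroup.mem_subgroupOf]
  simp only [Subgroup.coe_mul, Subgroup.coe_inv, Subgroup.mem_inf, and_iff_left_iff_imp]
  exact fun _ => mul_mem (inv_mem n.2) n'.2

lemma wOf_eq_iff {n n' : G} (hn : n ∈ P.N) (hn' : n' ∈ P.N) :
    wOf P hn = wOf P hn' ↔ n⁻¹ * n' ∈ P.B := mk_eq_iff P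

lemma wOf_eq_one_iff {n : G} (hn : n ∈ P.N) : wOf P hn = 1 ↔ n ∈ P.B := by
  rw [QuotientGroup.eq_one_iff, Subgroup.mem_subgroupOf]
  exact ⟨fun h => h.1, fun h => ⟨h, hn⟩⟩

lemma wOf_mul {n n' : G} (hn : n ∈ P.N) (hn' : n' ∈ P.N) :
    wOf P (mul_mem hn hn') = wOf P hn * wOf P hn' := rfl

lemma wOf_inv {n : G} (hn : n ∈ P.N) : wOf P (inv_mem hn) = (wOf P hn)⁻¹ := rfl

lemma wOf_S (s : P.S) : wOf P (P.subset s.2) = sigma P s := rfl

/-- `dc n` only depends on the class of `n`. -/
lemma doubleCoset_eq_of_mem {n n' : G} (h : n⁻¹ * n' ∈ P.B) :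
    DoubleCoset.doubleCoset n (P.B : Set G) P.B = DoubleCoset.doubleCoset n' (P.B : Set G) P.B :=
  (DoubleCoset.doubleCoset_eq_of_mem (DoubleCoset.mem_doubleCoset.2
    ⟨1, one_mem _, n⁻¹ * n', h, by simp⟩)).symm

lemma C_mk (n : P.N) : C P (QuotientGroup.mk n) = DoubleCoset.doubleCoset (n : G) (P.B : Set G) P.B :=
  doubleCoset_eq_of_mem P ((mk_eq_iff P).1 (QuotientGroup.out_eq' _))

lemma C_wOf {n : G} (hn : n ∈ P.N) :
    C P (wOf P hn) = DoubleCoset.doubleCoset n (P.B : Set G) P.B := C_mk P ⟨n, hn⟩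

lemma mem_C_mk {n : P.N} {g : G} :
    g ∈ C P (QuotientGroup.mk n) ↔ ∃ b ∈ P.B, ∃ b' ∈ P.B, g = b * n * b' := by
  rw [C_mk, DoubleCoset.mem_doubleCoset]; rfl

lemma mk_mem_C (n : P.N) : (n : G) ∈ C P (QuotientGroup.mk n) :=
  (mem_C_mk P).2 ⟨1, one_mem _, 1, one_mem _, by simp⟩

lemma self_mem_C {n : G} (hn : n ∈ P.N) : n ∈ C P (wOf P hn) := mk_mem_C P ⟨n, hn⟩

lemma mul_mem_C_left {w : Weyl P} {g b : G} (hb : b ∈ P.B) (hg : g ∈ C P w) : b * g ∈ C P w := by
  induction w using QuotientGroup.induction_on with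
  | H n =>
    obtain ⟨c, hc, c', hc', rfl⟩ := (mem_C_mk P).1 hg
    exact (mem_C_mk P).2 ⟨b * c, mul_mem hb hc, c', hc', by group⟩

lemma mul_mem_C_right {w : Weyl P} {g b : G} (hg : g ∈ C P w) (hb : b ∈ P.B) : g * b ∈ C P w := by
  induction w using QuotientGroup.induction_on with
  | H n =>
    obtain ⟨c, hc, c', hc', rfl⟩ := (mem_C_mk P).1 hg
    exact (mem_C_mk P).2 ⟨c, hc, c' * b, mul_mem hc' hb, by group⟩

lemma inv_mem_C {w : Weyl P} {g : G} (hg : g ∈ C P w) : g⁻¹ ∈ C P w⁻¹ := by
  induction w using QuotientGroup.induction_on with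
  | H n =>
    obtain ⟨c, hc, c', hc', rfl⟩ := (mem_C_mk P).1 hg
    rw [← QuotientGroup.mk_inv]
    exact (mem_C_mk P).2 ⟨c'⁻¹, inv_mem hc', c⁻¹, inv_mem hc,
      by simp only [Subgroup.coe_inv]; group⟩

lemma mem_C_one_iff {g : G} : g ∈ C P (1 : Weyl P) ↔ g ∈ P.B := by
  rw [← QuotientGroup.mk_one, mem_C_mk]
  constructor
  · rintro ⟨b, hb, b', hb', rfl⟩
    simpa using mul_mem hb hb'
  · exact fun h => ⟨g, h, 1, one_mem _, by simp⟩

/-- Every element of a product coset is a product of elements of the factors. -/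
lemma exists_mul_eq {v w : Weyl P} {g : G} (hg : g ∈ C P (v * w)) :
    ∃ x ∈ C P v, ∃ y ∈ C P w, g = x * y := by
  induction v using QuotientGroup.induction_on with
  | H n =>
    induction w using QuotientGroup.induction_on with
    | H m =>
      rw [← QuotientGroup.mk_mul] at hg
      obtain ⟨b, hb, b', hb', rfl⟩ := (mem_C_mk P).1 hg
      exact ⟨b * n, mul_mem_C_left P hb (mk_mem_C P n), m * b', mul_mem_C_right P (mk_mem_C P m) hb',
        by simp only [Subgroup.coe_mul]; group⟩

lemma C_nonempty (w : Weyl P) : ∃ g, g ∈ C P w :=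
  QuotientGroup.induction_on w fun n => ⟨n, mk_mem_C P n⟩

lemma sigma_sq (s : P.S) : sigma P s * sigma P s = 1 := by
  rw [sigma, ← QuotientGroup.mk_mul, QuotientGroup.eq_one_iff, Subgroup.mem_subgroupOf]
  exact ⟨P.sq_mem _ s.2, mul_mem (P.subset s.2) (P.subset s.2)⟩

lemma closure_sigma : Subgroup.closure (Set.range (sigma P)) = ⊤ := by
  rw [eq_top_iff]
  rintro w -
  induction w using QuotientGroup.induction_on with
  | H n =>
    have key : P.N ≤ ((Subgroup.closure (Set.range (sigma P))).comap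
        (QuotientGroup.mk' (T P))).map P.N.subtype := by
      conv_lhs => rw [← P.closure_sup]
      refine sup_le ((Subgroup.closure_le _).2 fun s hs => ?_) fun t ht => ?_
      · exact ⟨⟨s, P.subset hs⟩, Subgroup.subset_closure ⟨⟨s, hs⟩, rfl⟩, rfl⟩
      · refine ⟨⟨t, ht.2⟩, ?_, rfl⟩
        have h1 : (QuotientGroup.mk (⟨t, ht.2⟩ : P.N) : Weyl P) = 1 :=
          (QuotientGroup.eq_one_iff _).2 (Subgroup.mem_subgroupOf.2 ht)
        show QuotientGroup.mk' (T P) _ ∈ Subgroup.closure _
        rw [QuotientGroup.mk'_apply, h1]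
        exact one_mem _
    obtain ⟨m, hm, hme⟩ := key n.2
    obtain rfl : m = n := Subtype.ext hme
    exact hm

lemma sigma_inj : Function.Injective (sigma P) := fun s s' h =>
  Subtype.ext (P.inj _ s.2 _ s'.2 ((mk_eq_iff P).1 h))

/-- The axiom on double cosets. -/
lemma mul_left_simple (s : P.S) {w : Weyl P} {g h : G} (hg : g ∈ C P (sigma P s)) (hh : h ∈ C P w) :
    g * h ∈ C P (sigma P s * w) ∨ g * h ∈ C P w := by
  induction w using QuotientGroup.induction_on with
  | H n =>
    obtain ⟨b, hb, b', hb', rfl⟩ := (mem_C_mk P).1 hg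
    obtain ⟨c, hc, c', hc', rfl⟩ := (mem_C_mk P).1 hh
    have e : b * (s : G) * b' * (c * n * c') = b * ((s : G) * (b' * c) * n) * c' := by group
    rw [show ((⟨(s : G), P.subset s.2⟩ : P.N) : G) = (s : G) from rfl, e]
    rcases P.mul_mem_union _ s.2 _ n.2 _ (mul_mem hb' hc) with h1 | h1
    · left
      apply mul_mem_C_right P (mul_mem_C_left P hb _) hc'
      rw [sigma, ← QuotientGroup.mk_mul, C_mk]
      exact h1
    · right
      apply mul_mem_C_right P (mul_mem_C_left P hb _) hc'
      rw [C_mk]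
      exact h1

lemma sigma_inv' (s : P.S) : (sigma P s)⁻¹ = sigma P s := sigma_inv (sigma_sq P) s

lemma mul_right_simple (s : P.S) {w : Weyl P} {g h : G} (hg : g ∈ C P w) (hh : h ∈ C P (sigma P s)) :
    g * h ∈ C P (w * sigma P s) ∨ g * h ∈ C P w := by
  have hh' : h⁻¹ ∈ C P (sigma P s) := by simpa [sigma_inv'] using inv_mem_C P hh
  rcases mul_left_simple P s hh' (inv_mem_C P hg) with h1 | h1
  · left
    simpa [mul_inv_rev, sigma_inv'] using inv_mem_C P h1
  · right
    simpa [mul_inv_rev] using inv_mem_C P h1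

lemma sigma_ne_one (s : P.S) : sigma P s ≠ 1 := by
  intro h
  have hs : (s : G) ∈ P.B := (wOf_eq_one_iff P (P.subset s.2)).1 h
  refine P.conj_ne _ s.2 (Set.Subset.antisymm ?_ fun b hb => ?_)
  · rintro _ ⟨b, hb, rfl⟩
    exact mul_mem (mul_mem hs hb) hs
  · exact ⟨(s : G)⁻¹ * b * (s : G)⁻¹, mul_mem (mul_mem (inv_mem hs) hb) (inv_mem hs), by group⟩

/-- Two elements of `B s B` with product in `B s B`. -/
lemma exists_simple_mul_simple (s : P.S) :
    ∃ g h : G, g ∈ C P (sigma P s) ∧ h ∈ C P (sigma P s) ∧ g * h ∈ C P (sigma P s) := by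
  by_contra hne
  have hs : (s : G) ∈ C P (sigma P s) := self_mem_C P (P.subset s.2)
  have hB : ∀ b ∈ P.B, (s : G) * b * s ∈ P.B := fun b hb => by
    rcases mul_left_simple P s (mul_mem_C_right P hs hb) hs with h1 | h1
    · rwa [sigma_sq, mem_C_one_iff] at h1
    · exact absurd ⟨_, _, mul_mem_C_right P hs hb, hs, h1⟩ hne
  refine P.conj_ne _ s.2 (Set.Subset.antisymm (Set.image_subset_iff.2 hB) fun b hb => ?_)
  have hsq : (s : G) * s ∈ P.B := P.sq_mem _ s.2
  refine ⟨(s : G)⁻¹ * b * (s : G)⁻¹, ?_, by group⟩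
  have e : (s : G)⁻¹ * b * (s : G)⁻¹
      = ((s : G) * s)⁻¹ * ((s : G) * b * s) * ((s : G) * s)⁻¹ := by group
  rw [e]
  exact mul_mem (mul_mem (inv_mem hsq) (hB b hb)) (inv_mem hsq)

/-- Bruhat decomposition. -/
lemma exists_mem_C (g : G) : ∃ w, g ∈ C P w := by
  suffices h : ∀ (v w : Weyl P) (x y : G), x ∈ C P v → y ∈ C P w → ∃ u, x * y ∈ C P u by
    have hg : g ∈ P.B ⊔ P.N := by rw [P.sup_eq_top]; trivial
    rw [Subgroup.sup_eq_closure] at hg
    induction hg using Subgroup.closure_induction with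
    | mem x hx =>
      rcases hx with hx | hx
      · exact ⟨1, (mem_C_one_iff P).2 hx⟩
      · exact ⟨_, self_mem_C P hx⟩
    | one => exact ⟨1, (mem_C_one_iff P).2 (one_mem _)⟩
    | mul x y _ _ hx hy =>
      obtain ⟨v, hv⟩ := hx
      obtain ⟨w, hw⟩ := hy
      exact h v w x y hv hw
    | inv x _ hx =>
      obtain ⟨v, hv⟩ := hx
      exact ⟨_, inv_mem_C P hv⟩
  intro v
  obtain ⟨l, rfl⟩ := exists_word (sigma_sq P) (closure_sigma P) v
  induction l with
  | nil => exact fun w x y hx hy => ⟨w, mul_mem_C_left P ((mem_C_one_iff P).1 hx) hy⟩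
  | cons s l ih =>
    intro w x y hx hy
    obtain ⟨x₁, hx₁, x₂, hx₂, rfl⟩ := exists_mul_eq P (v := sigma P s) hx
    obtain ⟨u, hu⟩ := ih w x₂ y hx₂ hy
    rw [mul_assoc]
    rcases mul_left_simple P s hx₁ hu with h1 | h1
    exacts [⟨_, h1⟩, ⟨_, h1⟩]

/-- Length in the Weyl group. -/
noncomputable abbrev len (w : Weyl P) : ℕ := wlen (sigma P) w

/-- Uniqueness in the Bruhat decomposition. -/
lemma C_unique {v w : Weyl P} {g : G} (hv : g ∈ C P v) (hw : g ∈ C P w) : v = w := by
  suffices h : ∀ q, ∀ v w : Weyl P, len P v = q → q ≤ len P w → ∀ g : G,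
      g ∈ C P v → g ∈ C P w → v = w by
    rcases le_total (len P v) (len P w) with hl | hl
    · exact h _ v w rfl hl g hv hw
    · exact (h _ w v rfl hl g hw hv).symm
  intro q
  induction q with
  | zero =>
    intro v w hv0 _ g hv hw
    have h1 : v = 1 := wlen_eq_zero (sigma_sq P) (closure_sigma P) hv0
    subst h1
    rw [mem_C_one_iff] at hv
    induction w using QuotientGroup.induction_on with
    | H n =>
      obtain ⟨b, hb, b', hb', rfl⟩ := (mem_C_mk P).1 hw
      refine ((wOf_eq_one_iff P n.2).2 ?_).symm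
      have := mul_mem (mul_mem (inv_mem hb) hv) (inv_mem hb')
      simpa [mul_assoc] using this
  | succ q ih =>
    intro v w hvq hle g hv hw
    obtain ⟨l, hl, rfl⟩ := exists_reduced (sigma_sq P) (closure_sigma P) v
    simp only [len] at hvq hle ih
    rw [hvq] at hl
    obtain ⟨s, l, rfl⟩ := List.exists_cons_of_length_eq_add_one hl
    simp only [List.length_cons] at hl
    have hlen : wlen (sigma P) (wprod (sigma P) l) = q := by
      have h1 := wlen_le (σ := sigma P) l
      have h2 := wlen_sigma_mul_le (sigma_sq P) (closure_sigma P) s (wprod (sigma P) l)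
      rw [wprod_cons] at hvq
      omega
    obtain ⟨x₁, hx₁, x₂, hx₂, rfl⟩ := exists_mul_eq P (v := sigma P s) hv
    have e : x₂ = x₁⁻¹ * (x₁ * x₂) := by group
    have hx₁' : x₁⁻¹ ∈ C P (sigma P s) := by simpa [sigma_inv'] using inv_mem_C P hx₁
    rw [e] at hx₂
    rcases mul_left_simple P s hx₁' hw with h1 | h1
    · have h2 := le_wlen_sigma_mul (sigma_sq P) (closure_sigma P) s w
      rw [wprod_cons, ih _ _ hlen (by omega) _ hx₂ h1, sigma_mul_cancel (sigma_sq P)]
    · have h2 := ih _ _ hlen (by omega) _ hx₂ h1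
      rw [h2] at hlen
      omega

lemma C_eq_iff {v w : Weyl P} : C P v = C P w ↔ v = w := by
  refine ⟨fun h => ?_, fun h => h ▸ rfl⟩
  obtain ⟨g, hg⟩ := C_nonempty P v
  exact C_unique P hg (h ▸ hg)

lemma le_of_mul_sigma {v : Weyl P} {s : P.S} :
    len P v ≤ len P (v * sigma P s) + 1 := le_wlen_mul_sigma (sigma_sq P) (closure_sigma P) s v

/-- If multiplying by `s` does not decrease the length, `BsB·BwB ⊆ BswB`. -/
lemma mul_reduced (s : P.S) {w : Weyl P} (hle : len P w ≤ len P (sigma P s * w)) {g h : G}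
    (hg : g ∈ C P (sigma P s)) (hh : h ∈ C P w) : g * h ∈ C P (sigma P s * w) := by
  induction hq : len P w generalizing w g h with
  | zero =>
    obtain rfl : w = 1 := wlen_eq_zero (sigma_sq P) (closure_sigma P) hq
    rw [mul_one]
    exact mul_mem_C_right P hg ((mem_C_one_iff P).1 hh)
  | succ q ih =>
    obtain ⟨l, hl, hlw⟩ := exists_reduced (sigma_sq P) (closure_sigma P) w
    rw [show wlen (sigma P) w = q + 1 from hq] at hl
    rcases List.eq_nil_or_concat' l with rfl | ⟨l, t, rfl⟩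
    · simp at hl
    rw [wprod_append, wprod_cons, wprod_nil, mul_one] at hlw
    simp only [List.length_append, List.length_singleton] at hl
    subst hlw
    have hmq : len P (wprod (sigma P) l) = q := by
      have h1 := wlen_le (σ := sigma P) l
      have h2 := wlen_mul_sigma_le (sigma_sq P) (closure_sigma P) t (wprod (sigma P) l)
      simp only [len] at *
      omega
    have hsm : len P (wprod (sigma P) l) ≤ len P (sigma P s * wprod (sigma P) l) := by
      have h2 := wlen_mul_sigma_le (sigma_sq P) (closure_sigma P) t (sigma P s * wprod (sigma P) l)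
      rw [mul_assoc] at h2
      simp only [len] at *
      omega
    rcases mul_left_simple P s hg hh with h1 | h1
    · exact h1
    exfalso
    obtain ⟨y, hy, z, hz, rfl⟩ := exists_mul_eq P hh
    have hgy : g * y ∈ C P (sigma P s * wprod (sigma P) l) := ih hsm hg hy hmq
    have hz' : z⁻¹ ∈ C P (sigma P t) := by simpa [sigma_inv'] using inv_mem_C P hz
    have h2 := mul_right_simple P t h1 hz'
    rw [show g * (y * z) * z⁻¹ = g * y by group, mul_sigma_cancel (sigma_sq P)] at h2
    rcases h2 with h2 | h2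
    · exact sigma_ne_one P s (mul_eq_right.1 (C_unique P hgy h2))
    · rw [← C_unique P hgy h2, sigma_mul_cancel (sigma_sq P)] at hle
      rw [← C_unique P hgy h2] at hq
      simp only [len] at *
      omega

lemma len_sigma_mul_ne (s : P.S) (w : Weyl P) : len P (sigma P s * w) ≠ len P w := by
  intro he
  obtain ⟨g, h, hg, hh, hgh⟩ := exists_simple_mul_simple P s
  obtain ⟨x, hx⟩ := C_nonempty P (sigma P s * w)
  have hm : sigma P s * (sigma P s * w) = w := sigma_mul_cancel (sigma_sq P) s w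
  have h1 : h * x ∈ C P w := hm ▸ mul_reduced P s (by rw [hm]; exact he.le) hh hx
  have h2 := mul_reduced P s he.ge hg h1
  have h3 : g * h * x ∈ C P w := hm ▸ mul_reduced P s (by rw [hm]; exact he.le) hgh hx
  rw [← mul_assoc] at h2
  exact sigma_ne_one P s (mul_eq_right.1 (C_unique P h2 h3))

/-- If `s` is a descent of `w` then `BsB·BwB` meets `BwB`. -/
lemma descent (s : P.S) {w : Weyl P} (hlt : len P (sigma P s * w) < len P w) :
    ∃ g x : G, g ∈ C P (sigma P s) ∧ x ∈ C P w ∧ g * x ∈ C P w := by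
  obtain ⟨g, h, hg, hh, hgh⟩ := exists_simple_mul_simple P s
  obtain ⟨x, hx⟩ := C_nonempty P (sigma P s * w)
  have hm : sigma P s * (sigma P s * w) = w := sigma_mul_cancel (sigma_sq P) s w
  refine ⟨g, h * x, hg, hm ▸ mul_reduced P s (by rw [hm]; exact hlt.le) hh hx, ?_⟩
  rw [← mul_assoc]
  exact hm ▸ mul_reduced P s (by rw [hm]; exact hlt.le) hgh hx

/-- The exchange condition holds in the Weyl group of a (B,N)-pair. -/
theorem hasExchange : HasExchange (sigma P) := by
  refine ⟨sigma_sq P, closure_sigma P, sigma_inj P, fun l s => ?_⟩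
  induction l using List.reverseRec with
  | nil =>
    intro _ hle
    exfalso
    simp only [wprod_nil, mul_one, List.length_nil, nonpos_iff_eq_zero] at hle
    exact sigma_ne_one P s (wlen_eq_zero (sigma_sq P) (closure_sigma P) hle)
  | append_singleton l t ih =>
    intro hl hle
    have hl' := hl.append_left (sigma_sq P) (closure_sigma P)
    have hprod : wprod (sigma P) (l ++ [t]) = wprod (sigma P) l * sigma P t := by simp
    rcases Nat.lt_or_ge l.length (wlen (sigma P) (sigma P s * wprod (sigma P) l)) with hs | hs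
    · have hlt : len P (sigma P s * (wprod (sigma P) l * sigma P t))
          < len P (wprod (sigma P) l * sigma P t) := by
        have := len_sigma_mul_ne P s (wprod (sigma P) l * sigma P t)
        simp only [len, IsReduced, hprod] at *
        omega
      obtain ⟨g, x, hg, hx, hgx⟩ := descent P s hlt
      obtain ⟨y, hy, z, hz, rfl⟩ := exists_mul_eq P hx
      have hred : len P (wprod (sigma P) l) ≤ len P (sigma P s * wprod (sigma P) l) := by
        simp only [len, IsReduced] at *
        omega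
      have h1 := mul_reduced P s hred hg hy
      have hz' : z⁻¹ ∈ C P (sigma P t) := by simpa [sigma_inv'] using inv_mem_C P hz
      have h2 := mul_right_simple P t hgx hz'
      rw [show g * (y * z) * z⁻¹ = g * y by group, mul_sigma_cancel (sigma_sq P)] at h2
      rcases h2 with h2 | h2
      · exact absurd (mul_eq_right.1 (C_unique P h1 h2)) (sigma_ne_one P s)
      · refine ⟨l.length, by simp, ?_⟩
        have e : (l ++ [t]).eraseIdx l.length = l := by
          rw [List.eraseIdx_append_of_length_le le_rfl]; simp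
        rw [e, hprod, ← mul_assoc, C_unique P h1 h2, mul_sigma_cancel (sigma_sq P)]
    · obtain ⟨i, hi, e⟩ := ih hl' hs
      refine ⟨i, by simp; omega, ?_⟩
      rw [List.eraseIdx_append_of_lt_length hi, hprod, ← mul_assoc, e, wprod_append]
      simp

end Cfsg.Agent.BN
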