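import Cfsg.Agent.Lib.BN.Descents
import Cfsg.Agent.Lib.BN.Parabolic

/-!
# Cosets and double cosets of standard parabolics of a (B,N)-pair

* `parab P A`, `Wp P A` for `A : Set P.S`; `cellW P g` with `cellW_eq`;
* `mul_mem_C_add` : `B v B · B w B ⊆ B v w B` when lengths add;
* `dcEquiv` : minimal representatives ↔ double cosets of parabolics;
* `proj_bijOn` : cells of minimal representatives in `G/B` ↔ `G/P_A`, equivariantly for `B`.
-/

set_option autoImplicit false

namespace Cfsg.Agent.BN

variable {G : Type*} [Group G] (P : Cfsg.BNPair G)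

/-- The parabolic of a set of generators. -/
abbrev parab (A : Set P.S) : Subgroup G := P.parabolic (Subtype.val '' A)

/-- The special subgroup of a set of generators. -/
abbrev Wp (A : Set P.S) : Subgroup (Weyl P) := Subgroup.closure (sigma P '' A)

lemma WJ_image (A : Set P.S) : WJ P (Subtype.val '' A) = Wp P A := by
  have : subS P (Subtype.val '' A) = A := by
    ext s
    show (s : G) ∈ Subtype.val '' A ↔ s ∈ A
    exact Subtype.val_injective.mem_set_image
  rw [WJ, this]

lemma mem_parab_iff {A : Set P.S} {g : G} : g ∈ parab P A ↔ ∃ w ∈ Wp P A, g ∈ C P w := by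
  rw [parab, mem_parabolic_iff P (by rintro _ ⟨s, -, rfl⟩; exact s.2), WJ_image]

lemma C_subset_parab {A : Set P.S} {w : Weyl P} (hw : w ∈ Wp P A) {g : G} (hg : g ∈ C P w) : g ∈ parab P A :=
  (mem_parab_iff P).2 ⟨w, hw, hg⟩

/-- The Bruhat cell of an element. -/
noncomputable def cellW (g : G) : Weyl P := (exists_mem_C P g).choose

lemma mem_cellW (g : G) : g ∈ C P (cellW P g) := (exists_mem_C P g).choose_spec

lemma cellW_eq {g : G} {w : Weyl P} (hg : g ∈ C P w) : cellW P g = w := C_unique P (mem_cellW P g) hg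

lemma cellW_mul_right (g : G) {b : G} (hb : b ∈ P.B) : cellW P (g * b) = cellW P g :=
  cellW_eq P (mul_mem_C_right P (mem_cellW P g) hb)

lemma cellW_mul_left (g : G) {b : G} (hb : b ∈ P.B) : cellW P (b * g) = cellW P g :=
  cellW_eq P (mul_mem_C_left P hb (mem_cellW P g))

lemma cellW_out (g : G) : cellW P (Quotient.out (g : G ⧸ P.B)) = cellW P g := by
  obtain ⟨b, hb⟩ := QuotientGroup.mk_out_eq_mul P.B g
  rw [hb, cellW_mul_right P g b.2]

/-- `B W_A B · B w B ⊆ B W_A w B`. -/
lemma exists_mul_Wp_left {A : Set P.S} {v w : Weyl P} {x y : G} (hv : v ∈ Wp P A) (hx : x ∈ C P v)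
    (hy : y ∈ C P w) : ∃ a ∈ Wp P A, x * y ∈ C P (a * w) := by
  obtain ⟨l, hl, rfl⟩ := (mem_closure_image_iff (sigma_sq P) _ _).1 hv
  clear hv
  induction l generalizing x with
  | nil => exact ⟨1, one_mem _, by rw [one_mul]; exact mul_mem_C_left P ((mem_C_one_iff P).1 hx) hy⟩
  | cons s l ih =>
    obtain ⟨x₁, hx₁, x₂, hx₂, rfl⟩ := exists_mul_eq P (v := sigma P s) hx
    obtain ⟨a, ha, hxy⟩ := ih (fun t ht => hl t (List.mem_cons_of_mem _ ht)) hx₂
    rw [mul_assoc]
    rcases mul_left_simple P s hx₁ hxy with h1 | h1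
    · exact ⟨sigma P s * a, mul_mem (Subgroup.subset_closure ⟨s, hl s (by simp), rfl⟩) ha,
        by rwa [mul_assoc]⟩
    · exact ⟨a, ha, h1⟩

/-- `B w B · B W_A B ⊆ B w W_A B`. -/
lemma exists_mul_Wp_right {A : Set P.S} {v w : Weyl P} {x y : G} (hv : v ∈ Wp P A) (hx : x ∈ C P w)
    (hy : y ∈ C P v) : ∃ a ∈ Wp P A, x * y ∈ C P (w * a) := by
  obtain ⟨a, ha, h⟩ := exists_mul_Wp_left P (inv_mem hv) (inv_mem_C P hy) (inv_mem_C P hx)
  refine ⟨a⁻¹, inv_mem ha, ?_⟩
  simpa using inv_mem_C P h

lemma exists_cellW_left {A : Set P.S} {p : G} (hp : p ∈ parab P A) (g : G) :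
    ∃ a ∈ Wp P A, cellW P (p * g) = a * cellW P g := by
  obtain ⟨v, hv, hpv⟩ := (mem_parab_iff P).1 hp
  obtain ⟨a, ha, h⟩ := exists_mul_Wp_left P hv hpv (mem_cellW P g)
  exact ⟨a, ha, cellW_eq P h⟩

lemma exists_cellW_right {A : Set P.S} {p : G} (hp : p ∈ parab P A) (g : G) :
    ∃ a ∈ Wp P A, cellW P (g * p) = cellW P g * a := by
  obtain ⟨v, hv, hpv⟩ := (mem_parab_iff P).1 hp
  obtain ⟨a, ha, h⟩ := exists_mul_Wp_right P hv (mem_cellW P g) hpv
  exact ⟨a, ha, cellW_eq P h⟩

/-- Cells multiply when lengths add. -/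
lemma mul_mem_C_add {v w : Weyl P} (hadd : len P (v * w) = len P v + len P w) {x y : G} (hx : x ∈ C P v)
    (hy : y ∈ C P w) : x * y ∈ C P (v * w) := by
  obtain ⟨l, hl, rfl⟩ := exists_isReduced (sigma_sq P) (closure_sigma P) v
  induction l generalizing x with
  | nil => rw [wprod_nil, one_mul]; exact mul_mem_C_left P ((mem_C_one_iff P).1 hx) hy
  | cons s l ih =>
    obtain ⟨x₁, hx₁, x₂, hx₂, rfl⟩ := exists_mul_eq P (v := sigma P s) hx
    have hl' := hl.tail (sigma_sq P) (closure_sigma P)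
    simp only [len, wprod_cons, mul_assoc] at hadd ⊢
    have h1 := wlen_sigma_mul_le (sigma_sq P) (closure_sigma P) s (wprod (sigma P) l * w)
    have h2 := wlen_mul_le (sigma_sq P) (closure_sigma P) (wprod (sigma P) l) w
    rw [IsReduced, wprod_cons] at hl
    rw [IsReduced] at hl'
    rw [List.length_cons] at hl
    exact mul_reduced P s (by simp only [len]; omega) hx₁ (ih (x := x₂) hl' (by simp only [len] at *; omega) hx₂)

variable (A A' : Set P.S)

/-- Minimal representatives ↔ double cosets. -/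
noncomputable def dcEquiv : {m : Weyl P // IsMinRep (sigma P) A A' m} ≃
    DoubleCoset.Quotient (parab P A : Set G) (parab P A') :=
  Equiv.ofBijective (fun m => DoubleCoset.mk (parab P A) (parab P A') ((m.1.out : P.N) : G)) <| by
    have hcell : ∀ m : Weyl P, ((m.out : P.N) : G) ∈ C P m := fun m => by
      have := mk_mem_C P m.out
      rwa [QuotientGroup.out_eq'] at this
    constructor
    · rintro ⟨m, hm⟩ ⟨m', hm'⟩ h
      obtain ⟨p, hp, q, hq, e⟩ := (DoubleCoset.eq _ _ _ _).1 h
      obtain ⟨a, ha, h1⟩ := exists_cellW_left P hp ((m.out : P.N) : G)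
      obtain ⟨b, hb, h2⟩ := exists_cellW_right P hq (p * ((m.out : P.N) : G))
      refine Subtype.ext ((hasExchange P).minRep_unique hm hm' ha hb ?_).symm
      rw [← cellW_eq P (hcell m'), ← cellW_eq P (hcell m), ← h1, ← h2, ← e]
    · intro q
      refine Quotient.inductionOn' q fun g => ?_
      obtain ⟨m, hm, a, ha, b, hb, he⟩ := (hasExchange P).exists_minRep A A' (cellW P g)
      have hg : g ∈ C P (a * (m * b)) := by rw [← mul_assoc, ← he]; exact mem_cellW P g
      obtain ⟨x, hx, yz, hyz, rfl⟩ := exists_mul_eq P hg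
      obtain ⟨y, hy, z, hz, rfl⟩ := exists_mul_eq P hyz
      rw [← QuotientGroup.out_eq' m] at hy
      obtain ⟨c, hc, c', hc', rfl⟩ := (mem_C_mk P).1 hy
      refine ⟨⟨m, hm⟩, (DoubleCoset.eq _ _ _ _).2 ⟨x * c, mul_mem (C_subset_parab P ha hx) (le_parabolic P _ hc),
        c' * z, mul_mem (le_parabolic P _ hc') (C_subset_parab P hb hz), by group⟩⟩

/-- The projection of a coset of `B` to cosets of a parabolic. -/
noncomputable def proj (x : G ⧸ P.B) : G ⧸ parab P A := ((Quotient.out x : G) : G ⧸ parab P A)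

lemma proj_mk (g : G) : proj P A (g : G ⧸ P.B) = (g : G ⧸ parab P A) := by
  obtain ⟨b, hb⟩ := QuotientGroup.mk_out_eq_mul P.B g
  rw [proj, hb]
  exact QuotientGroup.mk_mul_of_mem g (le_parabolic P _ b.2)

lemma proj_smul (g : G) (x : G ⧸ P.B) : proj P A (g • x) = g • proj P A x := by
  induction x using QuotientGroup.induction_on with
  | H k => rw [MulAction.Quotient.smul_coe, proj_mk, proj_mk, MulAction.Quotient.smul_coe]

/-- The cosets of `B` in cells of minimal representatives. -/
def minCells : Set (G ⧸ P.B) := {x | IsMinRep (sigma P) ∅ A (cellW P (Quotient.out x))}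

lemma proj_bijective : Function.Bijective fun x : minCells P A => proj P A x.1 := by
  constructor
  · rintro ⟨x, hx⟩ ⟨y, hy⟩ h
    induction x using QuotientGroup.induction_on with
    | H g =>
    induction y using QuotientGroup.induction_on with
    | H k =>
      simp only [proj_mk, QuotientGroup.eq] at h
      simp only [minCells, Set.mem_ofPred_eq, cellW_out] at hx hy
      obtain ⟨v, hv, hgk⟩ := (mem_parab_iff P).1 h
      obtain ⟨a, ha, he⟩ := exists_cellW_right P h g
      rw [mul_inv_cancel_left] at he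
      have e : cellW P k = cellW P g := (hasExchange P).minRep_unique hx hy (one_mem _) ha (by rw [one_mul, he])
      have hadd := (hasExchange P).wlen_mul_of_minRep hx hv
      have hk := mul_mem_C_add P hadd (mem_cellW P g) hgk
      rw [mul_inv_cancel_left] at hk
      have hv1 : cellW P g * v = cellW P g := (cellW_eq P hk).symm.trans e
      rw [mul_eq_left.1 hv1, mem_C_one_iff] at hgk
      exact Subtype.ext (QuotientGroup.eq.2 hgk)
  · intro q
    induction q using QuotientGroup.induction_on with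
    | H g =>
      obtain ⟨m, hm, a, ha, b, hb, he⟩ := (hasExchange P).exists_minRep ∅ A (cellW P g)
      obtain rfl : a = 1 := by simpa using ha
      rw [one_mul] at he
      have hg : g ∈ C P (m * b) := he ▸ mem_cellW P g
      obtain ⟨x, hx, y, hy, rfl⟩ := exists_mul_eq P hg
      refine ⟨⟨(x : G ⧸ P.B), ?_⟩, ?_⟩
      · show IsMinRep _ _ _ _
        rw [cellW_out, cellW_eq P hx]; exact hm
      · show proj P A (x : G ⧸ P.B) = _
        rw [proj_mk]
        exact (QuotientGroup.mk_mul_of_mem x (C_subset_parab P hb hy)).symm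

lemma smul_mem_minCells {b : G} (hb : b ∈ P.B) {x : G ⧸ P.B} (hx : x ∈ minCells P A) : b • x ∈ minCells P A := by
  induction x using QuotientGroup.induction_on with
  | H g =>
    simp only [minCells, Set.mem_ofPred_eq, MulAction.Quotient.smul_coe, smul_eq_mul, cellW_out] at hx ⊢
    rwa [cellW_mul_left P g hb]

/-- An element of `B` fixes as many cosets of `P_A` as cosets of `B` in the minimal cells. -/
lemma card_fixedBy_parab {b : G} (hb : b ∈ P.B) :
    Nat.card (MulAction.fixedBy (G ⧸ parab P A) b) =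
      Nat.card {x : G ⧸ P.B // x ∈ minCells P A ∧ b • x = x} := by
  refine (Nat.card_congr (Equiv.ofBijective (fun x : {x : G ⧸ P.B // x ∈ minCells P A ∧ b • x = x} =>
    (⟨proj P A x.1, by
      show b • proj P A x.1 = proj P A x.1
      rw [← proj_smul, x.2.2]⟩ : MulAction.fixedBy (G ⧸ parab P A) b)) ⟨?_, ?_⟩)).symm
  · rintro ⟨x, hx, hxb⟩ ⟨y, hy, hyb⟩ hEq
    have e := (proj_bijective P A).1 (a₁ := ⟨x, hx⟩) (a₂ := ⟨y, hy⟩) (congrArg Subtype.val hEq)
    exact Subtype.ext (congrArg Subtype.val e :)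
  · rintro ⟨q, hq⟩
    obtain ⟨⟨x, hx⟩, rfl⟩ := (proj_bijective P A).2 q
    have hfix : b • x = x := congrArg Subtype.val ((proj_bijective P A).1
      (a₁ := ⟨b • x, smul_mem_minCells P A hb hx⟩) (a₂ := ⟨x, hx⟩) (by
        show proj P A (b • x) = proj P A x
        rw [proj_smul]; exact hq))
    exact ⟨⟨x, hx, hfix⟩, rfl⟩

end Cfsg.Agent.BN
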