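import Cfsg.Agent.Lib.BN.Exchange

/-!
# Matsumoto's theorem and the Coxeter system of an exchange group

* `HasExchange.matsumoto` : a map respecting the braid relations agrees on reduced words;
* `HasExchange.coxeterMatrix`, `HasExchange.exists_coxeterSystem`.
-/

set_option autoImplicit false

namespace Cfsg.Agent.BN

variable {S W A : Type*} [Group W] [Group A]

/-- The alternating word of length `n` starting with `s`. -/
def altW : S → S → ℕ → List S
  | _, _, 0 => []
  | s, t, n + 1 => s :: altW t s n

lemma length_altW (n : ℕ) : ∀ s t : S, (altW s t n).length = n := by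
  induction n with
  | zero => intro s t; rfl
  | succ n ih => intro s t; simp [altW, ih]

lemma altW_prefix {k n : ℕ} (h : k ≤ n) : ∀ s t : S, altW s t k <+: altW s t n := by
  induction k generalizing n with
  | zero => intro s t; exact List.nil_prefix
  | succ k ih =>
    intro s t
    obtain ⟨m, rfl⟩ := Nat.exists_eq_add_of_le h
    rw [show k + 1 + m = (k + m) + 1 by omega]
    simpa [altW, List.cons_prefix_cons] using ih (n := k + m) (by omega) t s

lemma mul_pow_succ (x y : A) (n : ℕ) : (x * y) ^ (n + 1) = x * (y * x) ^ n * y := by
  induction n with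
  | zero => simp
  | succ n ih => rw [pow_succ, ih, pow_succ (y * x)]; group

lemma altW_mul_inv (f : S → A) (hf : ∀ s, f s * f s = 1) (n : ℕ) :
    ∀ s t : S, wprod f (altW s t n) * (wprod f (altW t s n))⁻¹ = (f s * f t) ^ n := by
  induction n with
  | zero => intro s t; simp [altW]
  | succ n ih =>
    intro s t
    simp only [altW, wprod_cons, mul_inv_rev, sigma_inv hf, mul_pow_succ, ← ih t s]
    group

variable {σ : S → W}

namespace HasExchange

variable (h : HasExchange σ)
include h

/-- Matsumoto's theorem. -/
theorem matsumoto (f : S → A) (hf : ∀ s t n, (σ s * σ t) ^ n = 1 → (f s * f t) ^ n = 1)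
    {a b : List S} (ha : IsReduced σ a) (hb : IsReduced σ b) (hab : wprod σ a = wprod σ b) :
    wprod f a = wprod f b := by
  have hf2 : ∀ s, f s * f s = 1 := fun s => by
    simpa using hf s s 1 (by simpa using h.sq s)
  suffices main : ∀ q, ∀ a b : List S, a.length = q → IsReduced σ a → IsReduced σ b →
      wprod σ a = wprod σ b → wprod f a = wprod f b from main _ a b rfl ha hb hab
  clear ha hb hab a b
  intro q
  induction q using Nat.strong_induction_on with
  | _ q ih =>
    intro a₀ b₀ hlen₀ ha₀ hb₀ hab₀
    have len_eq : ∀ {a b : List S}, IsReduced σ a → IsReduced σ b → wprod σ a = wprod σ b →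
        a.length = b.length := fun ha hb hab => by rw [← ha, ← hb, hab]
    have same_head : ∀ {s : S} {a b : List S}, a.length + 1 = q → IsReduced σ (s :: a) →
        IsReduced σ (s :: b) → wprod σ (s :: a) = wprod σ (s :: b) →
        wprod f (s :: a) = wprod f (s :: b) := fun {s a b} hl ha hb hab => by
      simp only [wprod_cons, mul_right_inj] at hab ⊢
      exact ih a.length (by omega) a b rfl (ha.tail h.sq h.gen) (hb.tail h.sq h.gen) hab
    -- from a bad pair starting with `s`, `t`, the pair `(t :: a.dropLast, a)` is bad
    have step : ∀ (s t : S) (a b : List S), a.length + 1 = q → IsReduced σ (s :: a) →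
        IsReduced σ (t :: b) → wprod σ (s :: a) = wprod σ (t :: b) →
        wprod f (s :: a) ≠ wprod f (t :: b) →
        IsReduced σ (t :: (s :: a).dropLast) ∧
        wprod σ (t :: (s :: a).dropLast) = wprod σ (s :: a) ∧
        wprod f (t :: (s :: a).dropLast) ≠ wprod f (s :: a) := by
      intro s t a b hl ha hb hab hne
      have hbl : b.length = a.length := by
        have := len_eq ha hb hab
        simp only [List.length_cons] at this
        omega
      have hle : wlen σ (σ t * wprod σ (s :: a)) ≤ (s :: a).length := by
        rw [hab, wprod_cons, sigma_mul_cancel h.sq]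
        exact (wlen_le b).trans (by simp [hbl])
      obtain ⟨i, hi, e⟩ := h.exch _ t ha hle
      have hw : wprod σ (t :: (s :: a).eraseIdx i) = wprod σ (s :: a) := by
        rw [wprod_cons, ← e, sigma_mul_cancel h.sq]
      have hred : IsReduced σ (t :: (s :: a).eraseIdx i) := by
        have h1 : ((s :: a).eraseIdx i).length = a.length := by
          rw [List.length_eraseIdx_of_lt hi]; simp
        rw [IsReduced, hw, ha, List.length_cons, List.length_cons, h1]
      have hfb : wprod f (t :: (s :: a).eraseIdx i) = wprod f (t :: b) :=
        same_head (by rw [List.length_eraseIdx_of_lt hi]; simp; omega) hred hb (hw.trans hab)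
      have hlast : i = a.length := by
        by_contra hi'
        rcases List.eq_nil_or_concat' (s :: a) with hn | ⟨c, x, hc⟩
        · simp at hn
        have hcl : c.length = a.length := by
          have := congrArg List.length hc
          simp at this; omega
        have hic : i < c.length := by simp at hi; omega
        rw [hc, List.eraseIdx_append_of_lt_length hic] at hw hred hfb
        apply hne
        rw [hc, ← hfb]
        rw [hc] at ha
        rw [← List.cons_append] at hw hred ⊢
        simp only [wprod_append, mul_left_inj] at hw ⊢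
        exact ih c.length (by omega) _ _ rfl (ha.append_left h.sq h.gen)
          (hred.append_left h.sq h.gen) hw.symm
      have e' : (s :: a).eraseIdx i = (s :: a).dropLast := by
        rw [hlast, List.dropLast_eq_eraseIdx (xs := s :: a) rfl]
      rw [e'] at hw hred hfb
      exact ⟨hred, hw, fun hcon => hne (hcon.symm.trans hfb)⟩
    by_contra hne
    -- heads
    obtain ⟨s, a, rfl⟩ : ∃ s a', a₀ = s :: a' := by
      cases a₀ with
      | nil =>
        have h0 := len_eq ha₀ hb₀ hab₀
        simp [List.length_eq_zero_iff.1 h0.symm] at hne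
      | cons s a => exact ⟨s, a, rfl⟩
    obtain ⟨t, b, rfl⟩ : ∃ t b', b₀ = t :: b' := by
      cases b₀ with
      | nil =>
        have h0 := len_eq ha₀ hb₀ hab₀
        simp at h0
      | cons t b => exact ⟨t, b, rfl⟩
    -- alternating prefixes grow
    have grow : ∀ k, k + 1 ≤ q → ∃ (s t : S) (a b : List S), a.length + 1 = q ∧
        IsReduced σ (s :: a) ∧ IsReduced σ (t :: b) ∧ wprod σ (s :: a) = wprod σ (t :: b) ∧
        wprod f (s :: a) ≠ wprod f (t :: b) ∧ altW s t (k + 1) <+: (s :: a) := by
      intro k
      induction k with
      | zero =>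
        exact fun _ => ⟨s, t, a, b, by simpa using hlen₀, ha₀, hb₀, hab₀, hne,
          by simp [altW]⟩
      | succ k ihk =>
        intro hk
        obtain ⟨s, t, a, b, hl, ha, hb, hab, hne, hp⟩ := ihk (by omega)
        obtain ⟨h1, h2, h3⟩ := step s t a b hl ha hb hab hne
        refine ⟨t, s, (s :: a).dropLast, a, by simp; omega, h1, ha, h2, h3, ?_⟩
        rw [altW, List.cons_prefix_cons]
        refine ⟨rfl, List.prefix_of_prefix_length_le hp (List.dropLast_prefix _) ?_⟩
        simp only [length_altW, List.length_dropLast, List.length_cons]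
        omega
    obtain ⟨q', rfl⟩ : ∃ q', q = q' + 1 := ⟨a.length, by simpa using hlen₀.symm⟩
    obtain ⟨s, t, a, b, hl, ha, hb, hab, hne, hp⟩ := grow q' le_rfl
    obtain ⟨-, h2, h3⟩ := step s t a b hl ha hb hab hne
    have hA : s :: a = altW s t (q' + 1) :=
      (hp.eq_of_length (by simp [length_altW]; omega)).symm
    have hB : t :: (s :: a).dropLast = altW t s (q' + 1) := by
      show t :: (s :: a).dropLast = t :: altW s t q'
      congr 1
      have hp' : altW s t q' <+: s :: a := (altW_prefix (Nat.le_succ q') s t).trans hp
      have hp'' := List.prefix_of_prefix_length_le hp' (List.dropLast_prefix _)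
        (by simp [length_altW]; omega)
      exact (hp''.eq_of_length (by simp [length_altW]; omega)).symm
    rw [hB, hA] at h2 h3
    apply h3
    rw [← mul_inv_eq_one, altW_mul_inv f hf2]
    rw [← mul_inv_eq_one, altW_mul_inv σ h.sq] at h2
    exact hf t s _ h2

/-- The Coxeter matrix of the generators. -/
noncomputable def coxeterMatrix : CoxeterMatrix S where
  M := Matrix.of fun s t => orderOf (σ s * σ t)
  isSymm := Matrix.IsSymm.ext fun s t => by
    show orderOf (σ t * σ s) = orderOf (σ s * σ t)
    rw [← orderOf_inv (σ s * σ t), mul_inv_rev, sigma_inv h.sq, sigma_inv h.sq]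
  diagonal s := by simp [h.sq]
  off_diagonal s t hne := by
    simp only [Matrix.of_apply, ne_eq, orderOf_eq_one_iff]
    intro e
    exact hne (h.inj ((mul_eq_one_iff_eq_inv.1 e).trans (sigma_inv h.sq t)))

lemma coxeterMatrix_apply (s t : S) : h.coxeterMatrix s t = orderOf (σ s * σ t) := rfl

theorem exists_coxeterSystem :
    ∃ (M : CoxeterMatrix S) (cs : CoxeterSystem M W), ∀ s, cs.simple s = σ s := by
  let M := h.coxeterMatrix
  let cs₀ := M.toCoxeterSystem
  let φ : M.Group →* W := cs₀.lift ⟨σ, fun i j => by
    rw [show M i j = orderOf (σ i * σ j) from rfl]; exact pow_orderOf_eq_one _⟩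
  have hφ : ∀ s, φ (cs₀.simple s) = σ s := fun s => cs₀.lift_apply_simple _ s
  have hwp : ∀ l, φ (wprod cs₀.simple l) = wprod σ l := fun l => by
    induction l with
    | nil => simp
    | cons a l ih => simp [hφ, ih]
  have hf : ∀ s t n, (σ s * σ t) ^ n = 1 → (cs₀.simple s * cs₀.simple t) ^ n = 1 := by
    intro s t n hn
    obtain ⟨m, rfl⟩ := (orderOf_dvd_iff_pow_eq_one.2 hn : orderOf (σ s * σ t) ∣ n)
    rw [pow_mul, show orderOf (σ s * σ t) = M s t from rfl, cs₀.simple_mul_simple_pow, one_pow]
  choose r hr hrw using exists_isReduced h.sq h.gen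
  let F : W → M.Group := fun w => wprod cs₀.simple (r w)
  have hF : ∀ (s : S) (w : W), F (σ s * w) = cs₀.simple s * F w := by
    have up : ∀ (s : S) (w : W), wlen σ (σ s * w) = wlen σ w + 1 →
        F (σ s * w) = cs₀.simple s * F w := fun s w hw => by
      have hred : IsReduced σ (s :: r w) := by
        have h1 := hr w
        simp only [IsReduced, wprod_cons, hrw, List.length_cons] at h1 ⊢
        omega
      exact h.matsumoto cs₀.simple hf (hr _) hred (by simp [hrw])
    intro s w
    rcases h.wlen_sigma_mul_cases s w with hc | hc
    · exact up s w hc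
    · have h1 := up s (σ s * w) (by rw [sigma_mul_cancel h.sq]; omega)
      rw [sigma_mul_cancel h.sq] at h1
      rw [h1, ← mul_assoc, cs₀.simple_mul_simple_self, one_mul]
  have hinj : Function.Injective φ := by
    rw [injective_iff_map_eq_one]
    intro x hx
    obtain ⟨l, hl⟩ := exists_word (σ := cs₀.simple) cs₀.simple_mul_simple_self
      cs₀.subgroup_closure_range_simple x
    have key : ∀ l, F (wprod σ l) = wprod cs₀.simple l := fun l => by
      induction l with
      | nil =>
        have h1 : r 1 = [] := List.length_eq_zero_iff.1 (by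
          have := hr 1; rw [IsReduced, hrw, wlen_one] at this; exact this.symm)
        show wprod cs₀.simple (r 1) = _
        rw [h1]
      | cons a l ih => rw [wprod_cons, hF, ih, wprod_cons]
    have h1 := key l
    rw [← hwp, hl, hx, ← wprod_nil (σ := σ), key [], wprod_nil] at h1
    exact h1.symm
  have hsurj : Function.Surjective φ := fun w =>
    ⟨wprod cs₀.simple (r w), (hwp _).trans (hrw w)⟩
  exact ⟨M, cs₀.map (MulEquiv.ofBijective φ ⟨hinj, hsurj⟩), hφ⟩

end HasExchange

end Cfsg.Agent.BN
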