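import Cfsg.Agent.Lib.BN.Exchange

/-!
# Descents and double cosets of special subgroups in a finite exchange group

* `LeftDesc`, `RightDesc`, `IsMinRep`;
* `HasExchange.exists_minRep`, `HasExchange.minRep_unique`, `HasExchange.wlen_mul_of_minRep`;
* `HasExchange.existsUnique_full` : exactly one element has every generator as a left descent,
  and it is also the only one with every generator as a right descent.
-/

set_option autoImplicit false

namespace Cfsg.Agent.BN

variable {S W : Type*} [Group W]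

/-- `s` is a left descent of `w`. -/
def LeftDesc (σ : S → W) (s : S) (w : W) : Prop := wlen σ (σ s * w) < wlen σ w

/-- `s` is a right descent of `w`. -/
def RightDesc (σ : S → W) (s : S) (w : W) : Prop := wlen σ (w * σ s) < wlen σ w

/-- `m` has no left descent in `A` and no right descent in `B`. -/
def IsMinRep (σ : S → W) (A B : Set S) (m : W) : Prop :=
  (∀ s ∈ A, ¬ LeftDesc σ s m) ∧ ∀ s ∈ B, ¬ RightDesc σ s m

namespace HasExchange

variable {σ : S → W} (h : HasExchange σ)
include h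

lemma mul_inv_sigma (s : S) (w : W) : (σ s * w)⁻¹ = w⁻¹ * σ s := by
  rw [mul_inv_rev, sigma_inv h.sq]

lemma rightDesc_iff (s : S) (w : W) : RightDesc σ s w ↔ LeftDesc σ s w⁻¹ := by
  unfold RightDesc LeftDesc
  rw [wlen_inv h.sq h.gen w, ← wlen_inv h.sq h.gen (σ s * w⁻¹), h.mul_inv_sigma, inv_inv]

/-- A shortest element of a double coset: every element is reduced over it. -/
lemma exists_reduced_over {A B : Set S} {m₀ : W}
    (hmin : ∀ a ∈ Subgroup.closure (σ '' A), ∀ b ∈ Subgroup.closure (σ '' B), wlen σ m₀ ≤ wlen σ (a * m₀ * b))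
    {l₀ la lb : List S} (hl₀ : IsReduced σ l₀) (he₀ : wprod σ l₀ = m₀)
    (hla : ∀ s ∈ la, s ∈ A) (hlb : ∀ s ∈ lb, s ∈ B) :
    ∃ ka kb : List S, ka.Sublist la ∧ kb.Sublist lb ∧ IsReduced σ (ka ++ l₀ ++ kb) ∧
      wprod σ (ka ++ l₀ ++ kb) = wprod σ (la ++ l₀ ++ lb) := by
  obtain ⟨k, hsub, hk, hek⟩ := h.exists_reduced_sublist (la ++ l₀ ++ lb)
  obtain ⟨k₁, kb, rfl, hk₁, hkb⟩ := List.sublist_append_iff.1 hsub
  obtain ⟨ka, k₀, rfl, hka, hk₀⟩ := List.sublist_append_iff.1 hk₁
  refine ⟨ka, kb, hka, hkb, ?_⟩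
  have hmem : ∀ {C : Set S} {l : List S}, (∀ s ∈ l, s ∈ C) → wprod σ l ∈ Subgroup.closure (σ '' C) :=
    fun hl => (mem_closure_image_iff h.sq _ _).2 ⟨_, hl, rfl⟩
  have hlen : wlen σ m₀ ≤ k₀.length := by
    have e : wprod σ k₀ = ((wprod σ ka)⁻¹ * wprod σ la) * m₀ * (wprod σ lb * (wprod σ kb)⁻¹) := by
      simp only [wprod_append, he₀] at hek
      calc wprod σ k₀ = (wprod σ ka)⁻¹ * (wprod σ ka * wprod σ k₀ * wprod σ kb) * (wprod σ kb)⁻¹ := by group
        _ = _ := by rw [hek]; group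
    have := hmin _ (mul_mem (inv_mem (hmem fun s hs => hla s (hka.subset hs))) (hmem hla))
      _ (mul_mem (hmem hlb) (inv_mem (hmem fun s hs => hlb s (hkb.subset hs))))
    rw [← e] at this
    exact this.trans (wlen_le k₀)
  obtain rfl : k₀ = l₀ := hk₀.eq_of_length (le_antisymm hk₀.length_le (by
    rw [IsReduced, he₀] at hl₀; omega))
  exact ⟨hk, hek⟩

lemma leftDesc_head {s : S} {l : List S} (hl : IsReduced σ (s :: l)) : LeftDesc σ s (wprod σ (s :: l)) := by
  have := wlen_le (σ := σ) l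
  simp only [LeftDesc, IsReduced, wprod_cons, sigma_mul_cancel h.sq, List.length_cons] at *
  omega

lemma rightDesc_last {s : S} {l : List S} (hl : IsReduced σ (l ++ [s])) : RightDesc σ s (wprod σ (l ++ [s])) := by
  have := wlen_le (σ := σ) l
  simp only [RightDesc, IsReduced, wprod_append, wprod_cons, wprod_nil, mul_one, mul_sigma_cancel h.sq,
    List.length_append, List.length_cons, List.length_nil] at *
  omega

/-- An element without descents in `A`, `B` is the shortest element of its double coset, and determines it. -/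
lemma minRep_eq {A B : Set S} {m₀ : W}
    (hmin : ∀ a ∈ Subgroup.closure (σ '' A), ∀ b ∈ Subgroup.closure (σ '' B), wlen σ m₀ ≤ wlen σ (a * m₀ * b))
    {m : W} (hm : IsMinRep σ A B m) {a b : W} (ha : a ∈ Subgroup.closure (σ '' A))
    (hb : b ∈ Subgroup.closure (σ '' B)) (he : m = a * m₀ * b) : m = m₀ := by
  obtain ⟨la, hla, rfl⟩ := (mem_closure_image_iff h.sq _ _).1 ha
  obtain ⟨lb, hlb, rfl⟩ := (mem_closure_image_iff h.sq _ _).1 hb
  obtain ⟨l₀, hl₀, he₀⟩ := exists_isReduced h.sq h.gen m₀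
  obtain ⟨ka, kb, hka, hkb, hk, hek⟩ := h.exists_reduced_over hmin hl₀ he₀ hla hlb
  have hm' : wprod σ (ka ++ l₀ ++ kb) = m := by rw [hek, wprod_append, wprod_append, he₀, he]
  rcases ka with _ | ⟨s, ka⟩
  · rcases List.eq_nil_or_concat' kb with rfl | ⟨kb, s, rfl⟩
    · simpa [he₀] using hm'.symm
    · exfalso
      refine hm.2 s (hlb s (hkb.subset (by simp))) ?_
      rw [← hm']
      rw [← List.append_assoc] at hk ⊢
      exact h.rightDesc_last hk
  · exfalso
    refine hm.1 s (hla s (hka.subset (by simp))) ?_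
    rw [← hm']
    exact h.leftDesc_head hk

lemma exists_shortest (A B : Set S) (z : W) : ∃ m₀, (∃ a ∈ Subgroup.closure (σ '' A),
    ∃ b ∈ Subgroup.closure (σ '' B), z = a * m₀ * b) ∧
    ∀ a ∈ Subgroup.closure (σ '' A), ∀ b ∈ Subgroup.closure (σ '' B), wlen σ m₀ ≤ wlen σ (a * m₀ * b) := by
  classical
  let P : ℕ → Prop := fun k => ∃ m₀, wlen σ m₀ = k ∧ ∃ a ∈ Subgroup.closure (σ '' A),
    ∃ b ∈ Subgroup.closure (σ '' B), z = a * m₀ * b
  have hP : ∃ k, P k := ⟨_, z, rfl, 1, one_mem _, 1, one_mem _, by simp⟩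
  obtain ⟨m₀, hk, a, ha, b, hb, rfl⟩ := Nat.find_spec hP
  refine ⟨m₀, ⟨a, ha, b, hb, rfl⟩, fun a' ha' b' hb' => ?_⟩
  rw [hk]
  refine Nat.find_le ⟨_, rfl, a * a'⁻¹, mul_mem ha (inv_mem ha'), b'⁻¹ * b, mul_mem (inv_mem hb') hb, ?_⟩
  group

lemma isMinRep_of_shortest {A B : Set S} {m₀ : W}
    (hmin : ∀ a ∈ Subgroup.closure (σ '' A), ∀ b ∈ Subgroup.closure (σ '' B), wlen σ m₀ ≤ wlen σ (a * m₀ * b)) :
    IsMinRep σ A B m₀ :=
  ⟨fun s hs hd => by
      have := hmin _ (Subgroup.subset_closure ⟨s, hs, rfl⟩) 1 (one_mem _)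
      rw [mul_one] at this
      exact absurd hd (not_lt.2 this),
    fun s hs hd => by
      have := hmin 1 (one_mem _) _ (Subgroup.subset_closure ⟨s, hs, rfl⟩)
      rw [one_mul] at this
      exact absurd hd (not_lt.2 this)⟩

lemma exists_minRep (A B : Set S) (z : W) : ∃ m, IsMinRep σ A B m ∧
    ∃ a ∈ Subgroup.closure (σ '' A), ∃ b ∈ Subgroup.closure (σ '' B), z = a * m * b := by
  obtain ⟨m₀, hz, hmin⟩ := h.exists_shortest A B z
  exact ⟨m₀, h.isMinRep_of_shortest hmin, hz⟩

lemma minRep_unique {A B : Set S} {m m' : W} (hm : IsMinRep σ A B m) (hm' : IsMinRep σ A B m') {a b : W}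
    (ha : a ∈ Subgroup.closure (σ '' A)) (hb : b ∈ Subgroup.closure (σ '' B)) (he : m' = a * m * b) : m' = m := by
  obtain ⟨m₀, ⟨a₀, ha₀, b₀, hb₀, e⟩, hmin⟩ := h.exists_shortest A B m
  rw [h.minRep_eq hmin hm ha₀ hb₀ e, h.minRep_eq hmin hm' (mul_mem ha ha₀) (mul_mem hb₀ hb)
    (by rw [he, e]; group)]

/-- Lengths add over minimal coset representatives. -/
lemma wlen_mul_of_minRep {B : Set S} {m v : W} (hm : IsMinRep σ ∅ B m) (hv : v ∈ Subgroup.closure (σ '' B)) :
    wlen σ (m * v) = wlen σ m + wlen σ v := by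
  obtain ⟨m₀, ⟨a₀, ha₀, b₀, hb₀, e⟩, hmin⟩ := h.exists_shortest ∅ B m
  obtain rfl := h.minRep_eq hmin hm ha₀ hb₀ e
  obtain ⟨l₀, hl₀, he₀⟩ := exists_isReduced h.sq h.gen m
  obtain ⟨lb, hlb, rfl⟩ := exists_isReduced h.sq h.gen v
  obtain ⟨ka, kb, hka, hkb, hk, hek⟩ := h.exists_reduced_over hmin hl₀ he₀ (la := [])
    (by simp) (h.reduced_letters_mem B hlb hv)
  obtain rfl := List.sublist_nil.1 hka
  simp only [List.nil_append, wprod_append, he₀] at hk hek
  have hkb' : wprod σ kb = wprod σ lb := mul_left_cancel hek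
  have h1 := wlen_le' (σ := σ) kb hkb'
  have h2 := hkb.length_le
  have hk' := hk
  rw [IsReduced, wprod_append, he₀, hkb', List.length_append] at hk'
  rw [IsReduced, he₀] at hl₀
  rw [IsReduced] at hlb
  omega

/-- If every generator is a left descent, the element is longest in a strong sense. -/
lemma exists_reduced_prefix {w : W} (hw : ∀ s, LeftDesc σ s w) :
    ∀ la : List S, IsReduced σ la → ∃ u : List S, IsReduced σ (la ++ u) ∧ wprod σ (la ++ u) = w := by
  intro la
  induction la with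
  | nil => intro _; simpa using exists_isReduced h.sq h.gen w
  | cons s la ih =>
    intro hla
    obtain ⟨u, hu, hue⟩ := ih (hla.tail h.sq h.gen)
    have hd := hw s
    rw [LeftDesc, ← hue] at hd
    have hu' := hu
    rw [IsReduced] at hu'
    obtain ⟨i, hi, e⟩ := h.exch _ s hu (by omega)
    by_cases hia : i < la.length
    · exfalso
      rw [List.eraseIdx_append_of_lt_length hia, wprod_append, wprod_append, ← mul_assoc] at e
      have h1 := wlen_le' (σ := σ) (la.eraseIdx i) (mul_right_cancel e).symm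
      rw [IsReduced, wprod_cons, List.length_cons] at hla
      rw [List.length_eraseIdx_of_lt hia] at h1
      omega
    · rw [List.eraseIdx_append_of_length_le (not_lt.1 hia)] at e
      refine ⟨u.eraseIdx (i - la.length), ?_, ?_⟩
      · have hlen : (u.eraseIdx (i - la.length)).length + 1 = u.length := by
          rw [List.length_append] at hi
          rw [List.length_eraseIdx_of_lt (by omega)]; omega
        have heq : wprod σ (s :: la ++ u.eraseIdx (i - la.length)) = w := by
          rw [List.cons_append, wprod_cons, ← e, sigma_mul_cancel h.sq, hue]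
        rw [IsReduced, heq, List.length_append, List.length_cons]
        rw [hue, List.length_append] at hu'
        omega
      · rw [List.cons_append, wprod_cons, ← e, sigma_mul_cancel h.sq, hue]

lemma eq_of_forall_leftDesc {w w' : W} (hw : ∀ s, LeftDesc σ s w) (hw' : ∀ s, LeftDesc σ s w') : w = w' := by
  have key : ∀ {x y : W}, (∀ s, LeftDesc σ s x) → ∃ u : List S, wlen σ x = wlen σ y + u.length ∧
      x = y * wprod σ u := by
    intro x y hx
    obtain ⟨l, hl, hle⟩ := exists_isReduced h.sq h.gen y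
    obtain ⟨u, hu, hue⟩ := h.exists_reduced_prefix hx l hl
    rw [IsReduced, hue, List.length_append] at hu
    rw [IsReduced, hle] at hl
    exact ⟨u, by omega, by rw [← hue, wprod_append, hle]⟩
  obtain ⟨u, hu, hue⟩ := key (y := w') hw
  obtain ⟨u', hu', -⟩ := key (y := w) hw'
  obtain rfl : u = [] := List.length_eq_zero_iff.1 (by omega)
  simpa using hue

lemma exists_full [Finite W] : ∃ w₀ : W, (∀ s, LeftDesc σ s w₀) ∧ ∀ s, RightDesc σ s w₀ := by
  obtain ⟨w₀, hw₀⟩ := Finite.exists_max (fun w : W => wlen σ w)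
  refine ⟨w₀, fun s => lt_of_le_of_ne (hw₀ _) (h.wlen_sigma_mul_ne s w₀), fun s => ?_⟩
  rw [h.rightDesc_iff]
  refine lt_of_le_of_ne ?_ (h.wlen_sigma_mul_ne s w₀⁻¹)
  rw [wlen_inv h.sq h.gen w₀]
  exact hw₀ _

lemma eq_of_forall_rightDesc {w w' : W} (hw : ∀ s, RightDesc σ s w) (hw' : ∀ s, RightDesc σ s w') : w = w' :=
  inv_injective (h.eq_of_forall_leftDesc (fun s => (h.rightDesc_iff s w).1 (hw s))
    fun s => (h.rightDesc_iff s w').1 (hw' s))

end HasExchange

end Cfsg.Agent.BN
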