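import Cfsg.Agent.Lib.BN.Coxeter

/-!
# Exchange groups on two generators are dihedral

* `wprod_altW_two_mul`, `wprod_altW_two_mul_add_one`;
* `HasExchange.wlen_altW` : alternating words up to length `orderOf (σ s * σ t)` are reduced;
* `HasExchange.card_eq_two_mul`, `HasExchange.altW_top`.
-/

set_option autoImplicit false

namespace Cfsg.Agent.BN

variable {S W : Type*} [Group W] {σ : S → W}

lemma wprod_altW_succ_succ (s t : S) (n : ℕ) :
    wprod σ (altW s t (n + 2)) = σ s * σ t * wprod σ (altW s t n) := by
  simp [altW, mul_assoc]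

lemma wprod_altW_two_mul (s t : S) (i : ℕ) : wprod σ (altW s t (2 * i)) = (σ s * σ t) ^ i := by
  induction i with
  | zero => simp [altW]
  | succ i ih => rw [Nat.mul_succ, wprod_altW_succ_succ, ih, pow_succ']

namespace HasExchange

variable (h : HasExchange σ)
include h

lemma orderOf_comm (s t : S) : orderOf (σ t * σ s) = orderOf (σ s * σ t) := by
  rw [← orderOf_inv (σ s * σ t), mul_inv_rev, sigma_inv h.sq, sigma_inv h.sq]

/-- A reduced word in two letters alternates. -/
lemma exists_altW_of_isReduced {s t : S} {l : List S} (hl : IsReduced σ l)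
    (hmem : ∀ x ∈ l, x = s ∨ x = t) : l = altW s t l.length ∨ l = altW t s l.length := by
  induction l with
  | nil => exact Or.inl rfl
  | cons a l ih =>
    have hno : ∀ b l', l = b :: l' → b ≠ a := by
      rintro b l' rfl rfl
      rw [IsReduced, wprod_cons, wprod_cons, sigma_mul_cancel h.sq] at hl
      have := wlen_le (σ := σ) l'
      simp only [List.length_cons] at hl
      omega
    have ih' := ih (hl.tail h.sq h.gen) fun x hx => hmem x (List.mem_cons_of_mem _ hx)
    obtain rfl | ⟨b, l', rfl⟩ : l = [] ∨ ∃ b l', l = b :: l' := by cases l <;> simp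
    · rcases hmem a (by simp) with rfl | rfl
      · exact Or.inl rfl
      · exact Or.inr rfl
    have hba := hno b l' rfl
    simp only [List.length_cons, altW, List.cons.injEq] at ih' ⊢
    rcases hmem a (by simp) with rfl | rfl
    · rcases ih' with h1 | h1
      · exact absurd h1.1 hba
      · exact Or.inl ⟨rfl, h1.1, h1.2⟩
    · rcases ih' with h1 | h1
      · exact Or.inr ⟨rfl, h1.1, h1.2⟩
      · exact absurd h1.1 hba

lemma wlen_altW {s t : S} {m : ℕ} (hm : m = orderOf (σ s * σ t)) :
    ∀ k, k ≤ m → wlen σ (wprod σ (altW s t k)) = k ∧ wlen σ (wprod σ (altW t s k)) = k := by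
  intro k
  induction k using Nat.strong_induction_on with
  | _ k ih =>
    suffices main : ∀ x y : S, orderOf (σ x * σ y) = m → (x = s ∧ y = t ∨ x = t ∧ y = s) →
        k ≤ m → wlen σ (wprod σ (altW x y k)) = k from fun hk =>
      ⟨main s t hm.symm (Or.inl ⟨rfl, rfl⟩) hk,
        main t s (by rw [hm, h.orderOf_comm]) (Or.inr ⟨rfl, rfl⟩) hk⟩
    intro x y hxy hst hk
    obtain _ | k := k
    · simp [altW]
    have ih' : ∀ i ≤ k, wlen σ (wprod σ (altW y x i)) = i ∧ wlen σ (wprod σ (altW x y i)) = i := by
      intro i hi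
      have := ih i (by omega) (by omega)
      rcases hst with ⟨rfl, rfl⟩ | ⟨rfl, rfl⟩
      · exact ⟨this.2, this.1⟩
      · exact ⟨this.1, this.2⟩
    rw [altW, wprod_cons]
    rcases h.wlen_sigma_mul_cases x (wprod σ (altW y x k)) with hc | hc
    · rw [hc, (ih' k le_rfl).1]
    exfalso
    rw [(ih' k le_rfl).1] at hc
    obtain _ | k := k
    · omega
    obtain ⟨i, hi, e⟩ := h.exch (altW y x (k + 1)) x
      (by rw [IsReduced, (ih' _ le_rfl).1, length_altW]) (by rw [length_altW]; omega)
    have hll : ((altW y x (k + 1)).eraseIdx i).length = k := by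
      rw [List.length_eraseIdx_of_lt hi, length_altW]; omega
    have hlen : wlen σ (σ x * wprod σ (altW y x (k + 1))) = k := by omega
    have hred : IsReduced σ ((altW y x (k + 1)).eraseIdx i) := by rw [IsReduced, ← e, hlen, hll]
    have hletters : ∀ z ∈ (altW y x (k + 1)).eraseIdx i, z = y ∨ z = x := by
      have hall : ∀ (n : ℕ) (p q : S), ∀ z ∈ altW p q n, z = p ∨ z = q := by
        intro n
        induction n with
        | zero => simp [altW]
        | succ n ihn =>
          intro p q z hz
          rcases List.mem_cons.1 hz with rfl | hz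
          · exact Or.inl rfl
          · exact (ihn q p z hz).symm
      exact fun z hz => hall _ _ _ z ((List.eraseIdx_sublist _ i).subset hz)
    rcases h.exists_altW_of_isReduced hred hletters with he | he <;> rw [hll] at he <;>
      rw [he] at e
    · -- `alt_{k+2}(x,y) = alt_k(y,x)`, so `(xy)^{k+1} = 1`
      have e' : wprod σ (altW x y (k + 2)) = wprod σ (altW y x k) := e
      have hpow : (σ x * σ y) ^ (k + 1) = 1 := by
        rw [pow_succ', ← altW_mul_inv σ h.sq k x y, ← mul_assoc, ← wprod_altW_succ_succ, e',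
          mul_inv_cancel]
      have := Nat.le_of_dvd (by omega) (orderOf_dvd_of_pow_eq_one hpow)
      omega
    · -- start with `x`: cancel
      have e' : σ x * wprod σ (altW y x (k + 1)) = wprod σ (altW x y k) := e
      obtain _ | k := k
      · simp [altW] at e'
        have hpow : (σ x * σ y) ^ 1 = 1 := by simpa using e'
        have := Nat.le_of_dvd (by omega) (orderOf_dvd_of_pow_eq_one hpow)
        omega
      · rw [altW.eq_def x y] at e'
        simp only [wprod_cons, mul_right_inj] at e'
        have h1 := (ih' (k + 2) le_rfl).1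
        rw [e', (ih' k (by omega)).1] at h1
        omega

lemma altW_top {s t : S} {m : ℕ} (hm : m = orderOf (σ s * σ t)) :
    wprod σ (altW s t m) = wprod σ (altW t s m) := by
  rw [← mul_inv_eq_one, altW_mul_inv σ h.sq, hm, pow_orderOf_eq_one]

lemma card_eq_two_mul [Finite W] {s t : S} (hst : ∀ x, x = s ∨ x = t) :
    Nat.card W = 2 * orderOf (σ s * σ t) := by
  set m := orderOf (σ s * σ t) with hm
  have hmpos : 0 < m := orderOf_pos _
  have hlen := h.wlen_altW hm
  let R := Subgroup.zpowers (σ s * σ t)
  have hsR : σ s ∉ R := by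
    intro hs
    rw [← mem_powers_iff_mem_zpowers] at hs
    obtain ⟨j, hj⟩ := hs
    obtain ⟨i, hi, he⟩ : ∃ i < m, (σ s * σ t) ^ i = σ s :=
      ⟨j % m, Nat.mod_lt _ hmpos, by rw [hm, pow_mod_orderOf]; exact hj⟩
    rcases le_or_gt (2 * i) m with hle | hgt
    · have := (hlen _ hle).1
      rw [wprod_altW_two_mul, he, h.wlen_sigma] at this
      omega
    · have := (hlen (2 * (m - i)) (by omega)).2
      have e : (σ t * σ s) ^ (m - i) = σ s := by
        have e0 : (σ s * σ t) ^ (m - i) * (σ s * σ t) ^ i = 1 := by
          rw [← pow_add, Nat.sub_add_cancel hi.le, hm, pow_orderOf_eq_one]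
        rw [he] at e0
        rw [show σ t * σ s = (σ s * σ t)⁻¹ by rw [mul_inv_rev, sigma_inv h.sq, sigma_inv h.sq],
          inv_pow]
        exact inv_eq_of_mul_eq_one_right e0
      rw [wprod_altW_two_mul, e, h.wlen_sigma] at this
      omega
  have hconj : ∀ r ∈ R, σ s * r * σ s ∈ R := by
    intro r hr
    obtain ⟨i, rfl⟩ := Subgroup.mem_zpowers_iff.1 hr
    have e1 := conj_zpow (a := σ s) (b := σ s * σ t) (i := i)
    rw [sigma_inv h.sq] at e1
    rw [← e1, show σ s * (σ s * σ t) * σ s = (σ s * σ t)⁻¹ by
      rw [mul_inv_rev, sigma_inv h.sq, sigma_inv h.sq, sigma_mul_cancel h.sq]]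
    exact zpow_mem (inv_mem (Subgroup.mem_zpowers _)) i
  have hcases : ∀ w : W, w ∈ R ∨ σ s * w ∈ R := by
    intro w
    obtain ⟨l, rfl⟩ := exists_word h.sq h.gen w
    induction l with
    | nil => exact Or.inl (one_mem _)
    | cons a l ih =>
      rw [wprod_cons]
      rcases hst a with rfl | rfl
      · rcases ih with ih | ih
        · right; rwa [sigma_mul_cancel h.sq]
        · left; exact ih
      · rcases ih with ih | ih
        · right; rw [← mul_assoc]; exact mul_mem (Subgroup.mem_zpowers _) ih
        · left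
          have := mul_mem (inv_mem (Subgroup.mem_zpowers (σ s * σ a))) ih
          rwa [mul_inv_rev, sigma_inv h.sq, sigma_inv h.sq, mul_assoc, sigma_mul_cancel h.sq] at this
  have hindex : R.index = 2 := by
    rw [Subgroup.index_eq_two_iff]
    refine ⟨σ s, fun b => ?_⟩
    rcases hcases b with hb | hb
    · exact Or.inr ⟨hb, fun h' => hsR (by simpa using mul_mem (inv_mem hb) h')⟩
    · refine Or.inl ⟨?_, fun h' => hsR (by simpa using mul_mem hb (inv_mem h'))⟩
      have := hconj _ hb
      rwa [sigma_mul_cancel h.sq] at this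
  rw [← R.card_mul_index, hindex, Nat.card_zpowers, mul_comm]

end HasExchange

end Cfsg.Agent.BN
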