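import Cfsg.Agent.EqLemmas

/-!
# An idempotent in the Hecke algebra of a dihedral group

In a ring with `S² = a + (a-1)S`, `T² = b + (b-1)T`, put `Z k = (ST)^k - (TS)^k`, `C = Z 1` and
`u = ST + TS - (b-1)S - (a-1)T + (a-1)(b-1)`. Then `u` acts on the `Z k` by a Chebyshev
recursion and `C² = (u - (ab+1))(u + (a+b))`; hence `(∑ v k • Z k) * C` is a multiple of an
idempotent when `v` is an eigenvector of the recursion.
-/

set_option autoImplicit false

namespace Cfsg.Agent.BN

/-- `U 0 = 0`, `U 1 = 1`, `U (k+2) = x U (k+1) - c U k`. -/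
def chebU {k R : Type*} [CommRing k] [Ring R] [Algebra k R] (c : k) (x : R) : ℕ → R
  | 0 => 0
  | 1 => 1
  | n + 2 => x * chebU c x (n + 1) - c • chebU c x n

section

variable {R : Type*} [Ring R] [Algebra ℝ R]

/-- `(ST)^k - (TS)^k`. -/
def heckeZ (S T : R) (k : ℕ) : R := (S * T) ^ k - (T * S) ^ k

/-- The central element `ST + ab (ST)⁻¹`. -/
def heckeU (a b : ℝ) (S T : R) : R :=
  S * T + T * S - (b - 1) • S - (a - 1) • T + ((a - 1) * (b - 1)) • (1 : R)

variable {a b : ℝ} {S T : R}

lemma heckeU_eq (a b : ℝ) (S T : R) :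
    heckeU a b S T = S * T + (T - (b - 1) • (1 : R)) * (S - (a - 1) • (1 : R)) ∧
    heckeU a b S T = T * S + (S - (a - 1) • (1 : R)) * (T - (b - 1) • (1 : R)) := by
  unfold heckeU
  constructor <;>
  · simp only [mul_sub, sub_mul, smul_mul_assoc, mul_smul_comm, smul_sub, smul_smul, mul_one,
      one_mul]
    module

lemma inv_part_mul (hS : S * S = a • (1 : R) + (a - 1) • S) (hT : T * T = b • (1 : R) + (b - 1) • T) :
    (T - (b - 1) • (1 : R)) * (S - (a - 1) • (1 : R)) * (S * T) = (a * b) • (1 : R) ∧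
    S * T * ((T - (b - 1) • (1 : R)) * (S - (a - 1) • (1 : R))) = (a * b) • (1 : R) := by
  have hS' : ∀ x : R, S * (S * x) = a • x + (a - 1) • (S * x) := fun x => by
    rw [← mul_assoc, hS, add_mul, smul_mul_assoc, smul_mul_assoc, one_mul]
  have hT' : ∀ x : R, T * (T * x) = b • x + (b - 1) • (T * x) := fun x => by
    rw [← mul_assoc, hT, add_mul, smul_mul_assoc, smul_mul_assoc, one_mul]
  constructor <;>
  · simp only [mul_sub, sub_mul, mul_add, add_mul, smul_mul_assoc, mul_smul_comm, smul_sub,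
      smul_add, smul_smul, mul_one, one_mul, mul_assoc, hS', hT', hS, hT]
    module

lemma heckeU_mul_pow (hS : S * S = a • (1 : R) + (a - 1) • S)
    (hT : T * T = b • (1 : R) + (b - 1) • T) (k : ℕ) :
    heckeU a b S T * (S * T) ^ (k + 1) = (S * T) ^ (k + 2) + (a * b) • (S * T) ^ k := by
  rw [(heckeU_eq a b S T).1, add_mul, ← pow_succ', pow_succ' (S * T) k, ← mul_assoc,
    (inv_part_mul hS hT).1, smul_mul_assoc, one_mul]

lemma heckeU_symm (a b : ℝ) (S T : R) : heckeU b a T S = heckeU a b S T := by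
  unfold heckeU; module

lemma heckeU_commute (hS : S * S = a • (1 : R) + (a - 1) • S)
    (hT : T * T = b • (1 : R) + (b - 1) • T) : Commute (heckeU a b S T) (S * T) := by
  rw [Commute, SemiconjBy, (heckeU_eq a b S T).1, add_mul, mul_add, (inv_part_mul hS hT).1,
    (inv_part_mul hS hT).2]

lemma heckeU_mul_Z (hS : S * S = a • (1 : R) + (a - 1) • S)
    (hT : T * T = b • (1 : R) + (b - 1) • T) (k : ℕ) :
    heckeU a b S T * heckeZ S T (k + 1) = heckeZ S T (k + 2) + (a * b) • heckeZ S T k := by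
  have h2 := heckeU_mul_pow hT hS k
  rw [heckeU_symm, mul_comm b a] at h2
  rw [heckeZ, mul_sub, heckeU_mul_pow hS hT, h2, heckeZ, heckeZ]
  module

lemma heckeC_sq (hS : S * S = a • (1 : R) + (a - 1) • S)
    (hT : T * T = b • (1 : R) + (b - 1) • T) :
    heckeZ S T 1 * heckeZ S T 1 =
      (heckeU a b S T - (a * b + 1) • (1 : R)) * (heckeU a b S T + (a + b) • (1 : R)) := by
  have hS' : ∀ x : R, S * (S * x) = a • x + (a - 1) • (S * x) := fun x => by
    rw [← mul_assoc, hS, add_mul, smul_mul_assoc, smul_mul_assoc, one_mul]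
  have hT' : ∀ x : R, T * (T * x) = b • x + (b - 1) • (T * x) := fun x => by
    rw [← mul_assoc, hT, add_mul, smul_mul_assoc, smul_mul_assoc, one_mul]
  simp only [heckeZ, heckeU, pow_one, mul_sub, sub_mul, mul_add, add_mul, smul_mul_assoc,
    mul_smul_comm, smul_sub, smul_add, smul_smul, mul_one, one_mul, mul_assoc, hS', hT', hS, hT]
  module

lemma heckeZ_eq_cheb (hS : S * S = a • (1 : R) + (a - 1) • S)
    (hT : T * T = b • (1 : R) + (b - 1) • T) :
    ∀ k, heckeZ S T k = chebU (a * b) (heckeU a b S T) k * heckeZ S T 1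
  | 0 => by simp [heckeZ, chebU]
  | 1 => by simp [chebU]
  | k + 2 => by
    rw [chebU, sub_mul, mul_assoc, smul_mul_assoc, ← heckeZ_eq_cheb hS hT (k + 1),
      ← heckeZ_eq_cheb hS hT k, heckeU_mul_Z hS hT]
    abel

lemma chebU_mul {c θ : ℝ} {u K : R} (hu : u * K = θ • K) :
    ∀ k, chebU c u k * K = chebU c θ k • K
  | 0 => by simp [chebU]
  | 1 => by simp [chebU]
  | k + 2 => by
    rw [chebU, chebU, sub_mul, mul_assoc, chebU_mul hu (k + 1), mul_smul_comm, hu, smul_mul_assoc,
      chebU_mul hu k, smul_smul, smul_smul]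
    simp only [smul_eq_mul]
    module

/-- The element `(∑_{1≤k≤h} v k • Z k) * C`. -/
noncomputable def heckeK (S T : R) (v : ℕ → ℝ) (h : ℕ) : R :=
  (∑ k ∈ Finset.range h, v (k + 1) • heckeZ S T (k + 1)) * heckeZ S T 1

theorem heckeK_mul_self (hS : S * S = a • (1 : R) + (a - 1) • S)
    (hT : T * T = b • (1 : R) + (b - 1) • T) {θ : ℝ} {v : ℕ → ℝ} (hv0 : v 0 = 0)
    (hv : ∀ k, v k + a * b * v (k + 2) = θ * v (k + 1)) {h : ℕ}
    (hbd : v h • heckeZ S T (h + 1) = (a * b * v (h + 1)) • heckeZ S T h) :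
    heckeK S T v h * heckeK S T v h =
      ((θ - (a * b + 1)) * (θ + (a + b)) *
        ∑ k ∈ Finset.range h, v (k + 1) * chebU (a * b) θ (k + 1)) • heckeK S T v h := by
  set u := heckeU a b S T
  set F : ℕ → R := fun k => v k • heckeZ S T (k + 1) - (a * b * v (k + 1)) • heckeZ S T k with hF
  have hW : u * (∑ k ∈ Finset.range h, v (k + 1) • heckeZ S T (k + 1)) =
      θ • ∑ k ∈ Finset.range h, v (k + 1) • heckeZ S T (k + 1) := by
    rw [Finset.mul_sum, Finset.smul_sum, ← sub_eq_zero, ← Finset.sum_sub_distrib]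
    have e : ∀ k ∈ Finset.range h, u * (v (k + 1) • heckeZ S T (k + 1)) -
        θ • v (k + 1) • heckeZ S T (k + 1) = F (k + 1) - F k := fun k _ => by
      rw [mul_smul_comm, heckeU_mul_Z hS hT, smul_smul, ← hv k, hF]
      simp only
      module
    rw [Finset.sum_congr rfl e, Finset.sum_range_sub]
    simp only [hF, hbd, sub_self]
    simp [hv0, heckeZ]
  have hK : u * heckeK S T v h = θ • heckeK S T v h := by
    rw [heckeK, ← mul_assoc, hW, smul_mul_assoc]
  have hCu : Commute u (heckeZ S T 1) := by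
    have h2 := heckeU_commute hT hS
    rw [heckeU_symm] at h2
    simpa [heckeZ, u] using (heckeU_commute hS hT).sub_right h2
  have hCCK : heckeZ S T 1 * heckeZ S T 1 * heckeK S T v h =
      ((θ - (a * b + 1)) * (θ + (a + b))) • heckeK S T v h := by
    rw [heckeC_sq hS hT, mul_assoc, add_mul, smul_mul_assoc, one_mul, hK, ← add_smul,
      mul_smul_comm, sub_mul, smul_mul_assoc, one_mul, hK, ← sub_smul, smul_smul, mul_comm]
  calc heckeK S T v h * heckeK S T v h
      = (∑ k ∈ Finset.range h, v (k + 1) • chebU (a * b) u (k + 1)) *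
          (heckeZ S T 1 * heckeZ S T 1 * heckeK S T v h) := by
        change (∑ k ∈ Finset.range h, v (k + 1) • heckeZ S T (k + 1)) * heckeZ S T 1 *
          heckeK S T v h = _
        rw [Finset.sum_mul, Finset.sum_mul, Finset.sum_mul]
        refine Finset.sum_congr rfl fun k _ => ?_
        rw [heckeZ_eq_cheb hS hT (k + 1)]
        simp only [smul_mul_assoc, mul_assoc]
        rfl
    _ = _ := by
        rw [hCCK, mul_smul_comm, Finset.sum_mul]
        simp only [smul_mul_assoc, chebU_mul hK, smul_smul]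
        rw [← Finset.sum_smul, smul_smul]

end

end Cfsg.Agent.BN
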