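import Cfsg.Agent.Lib.BN.FeitHigman

/-!
# The arithmetic behind the Feit–Higman theorem

* `sum_sin_sq`, `chebU_two_mul_cos`;
* `feit_higman_arith` : if all `(4ab - θ²)/((ab+1-θ)(a+b+θ))`, `θ = 2√(ab) cos(2πj/m)`, are rational
  then `m ∈ {3,4,6,8}`.
-/

set_option autoImplicit false

namespace Cfsg.Agent.BN

open Real

lemma sum_sin_sq {m j : ℕ} (hj : 0 < j) (hjm : 2 * j < m) :
    ∑ k ∈ Finset.range ((m - 1) / 2), sin (((k + 1 : ℕ) : ℝ) * (2 * π * j / m)) ^ 2
      = (m : ℝ) / 4 := by
  set φ : ℝ := 2 * π * j / m with hφ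
  have hm : (0 : ℝ) < m := by exact_mod_cast (by omega : 0 < m)
  have hsin : 0 < sin φ := by
    refine sin_pos_of_pos_of_lt_pi ?_ ?_
    · have : (0 : ℝ) < j := by exact_mod_cast hj
      positivity
    · rw [hφ, div_lt_iff₀ hm]
      have : (2 * j : ℝ) < m := by exact_mod_cast hjm
      nlinarith [pi_pos]
  set h := (m - 1) / 2 with hh
  have tele : ∀ k : ℕ, 4 * sin φ * sin (((k + 1 : ℕ) : ℝ) * φ) ^ 2 =
      2 * sin φ - (sin ((2 * ((k + 1 : ℕ) : ℝ) + 1) * φ) - sin ((2 * (k : ℕ) + 1 : ℝ) * φ)) := by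
    intro k
    rw [sin_sub_sin]
    push_cast
    rw [show ((2 * ((k : ℝ) + 1) + 1) * φ - (2 * (k : ℝ) + 1) * φ) / 2 = φ by ring,
      show ((2 * ((k : ℝ) + 1) + 1) * φ + (2 * (k : ℝ) + 1) * φ) / 2 = 2 * (((k : ℝ) + 1) * φ) by
        ring, cos_two_mul']
    nlinarith [sin_sq_add_cos_sq (((k : ℝ) + 1) * φ)]
  have hsum : 4 * sin φ * ∑ k ∈ Finset.range h, sin (((k + 1 : ℕ) : ℝ) * φ) ^ 2
      = 2 * sin φ * h - (sin ((2 * (h : ℝ) + 1) * φ) - sin φ) := by
    rw [Finset.mul_sum, Finset.sum_congr rfl fun k _ => tele k, Finset.sum_sub_distrib,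
      Finset.sum_range_sub (fun k : ℕ => sin ((2 * (k : ℝ) + 1) * φ))]
    simp
    ring
  have hmφ : (m : ℝ) * φ = (j : ℕ) * (2 * π) := by rw [hφ]; field_simp
  rcases Nat.even_or_odd m with ⟨r, hr⟩ | ⟨r, hr⟩
  · have e : ((h : ℝ) + 1) * 2 = m := by exact_mod_cast (show (h + 1) * 2 = m by omega)
    have es : sin ((2 * (h : ℝ) + 1) * φ) = -sin φ := by
      rw [show (2 * (h : ℝ) + 1) * φ = -φ + (j : ℕ) * (2 * π) by linear_combination φ * e + hmφ,
        sin_add_nat_mul_two_pi, sin_neg]
    rw [es] at hsum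
    have : sin φ * (4 * ∑ k ∈ Finset.range h, sin (((k + 1 : ℕ) : ℝ) * φ) ^ 2)
        = sin φ * m := by linear_combination hsum + sin φ * e
    have := mul_left_cancel₀ hsin.ne' this
    linarith
  · have e : 2 * (h : ℝ) + 1 = m := by exact_mod_cast (show 2 * h + 1 = m by omega)
    have es : sin ((2 * (h : ℝ) + 1) * φ) = 0 := by
      rw [e, hmφ]
      simpa using sin_add_nat_mul_two_pi 0 j
    rw [es] at hsum
    have : sin φ * (4 * ∑ k ∈ Finset.range h, sin (((k + 1 : ℕ) : ℝ) * φ) ^ 2)
        = sin φ * m := by linear_combination hsum + sin φ * e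
    have := mul_left_cancel₀ hsin.ne' this
    linarith

lemma chebU_two_mul_cos {c d φ : ℝ} (hd : c * c = d) : ∀ k : ℕ,
    c * sin φ * chebU d (2 * c * cos φ) k = c ^ k * sin ((k : ℝ) * φ)
  | 0 => by simp [chebU]
  | 1 => by simp [chebU]
  | k + 2 => by
    have h1 := chebU_two_mul_cos hd (φ := φ) (k + 1)
    have h2 := chebU_two_mul_cos hd (φ := φ) k
    have e : sin (((k + 2 : ℕ) : ℝ) * φ)
        = 2 * cos φ * sin (((k + 1 : ℕ) : ℝ) * φ) - sin ((k : ℝ) * φ) := by
      push_cast
      rw [show ((k : ℝ) + 2) * φ = ((k : ℝ) + 1) * φ + φ by ring,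
        show (k : ℝ) * φ = ((k : ℝ) + 1) * φ - φ by ring, sin_add, sin_sub]
      ring
    rw [chebU, e, smul_eq_mul]
    subst hd
    linear_combination (2 * c * cos φ) * h1 - (c * c) * h2

open Polynomial in
lemma chebU_X_spec (d : ℚ) : ∀ k : ℕ,
    ((chebU d (X : ℚ[X]) (k + 1)).natDegree ≤ k ∧ (chebU d (X : ℚ[X]) (k + 1)).coeff k = 1) := by
  intro k
  induction k using Nat.strong_induction_on with
  | _ k ih =>
    match k with
    | 0 => simp [chebU]
    | 1 => simp [chebU]
    | k + 2 =>
      obtain ⟨h1, h2⟩ := ih (k + 1) (by omega)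
      obtain ⟨h3, -⟩ := ih k (by omega)
      rw [chebU]
      constructor
      · refine (natDegree_sub_le _ _).trans (max_le ?_ ?_)
        · exact natDegree_mul_le.trans (by simp; omega)
        · exact (natDegree_smul_le _ _).trans (h3.trans (by omega))
      · rw [coeff_sub, coeff_X_mul, h2, coeff_smul,
          coeff_eq_zero_of_natDegree_lt (h3.trans_lt (by omega)), smul_zero, sub_zero]

open Polynomial in
lemma aeval_chebU (d : ℚ) (x : ℝ) : ∀ k : ℕ,
    aeval x (chebU d (X : ℚ[X]) k) = chebU (d : ℝ) x k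
  | 0 => by simp [chebU]
  | 1 => by simp [chebU]
  | k + 2 => by
    rw [chebU, chebU, map_sub, map_mul, map_smul, aeval_X, aeval_chebU d x (k + 1),
      aeval_chebU d x k]
    simp [Rat.smul_def]

lemma rat_cos_cases {m : ℕ} (hm : 3 ≤ m) (hcos : ∃ q : ℚ, cos (2 * π / m) = q) :
    m = 3 ∨ m = 4 ∨ m = 6 := by
  have hq : ∃ q : ℚ, cos (((2 / m : ℚ) : ℝ) * π) = q := by
    obtain ⟨q, hq⟩ := hcos
    exact ⟨q, by rw [← hq]; congr 1; push_cast; ring⟩
  have hm' : (3 : ℚ) ≤ m := by exact_mod_cast hm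
  have := niven_angle_div_pi_eq hq ⟨by positivity, by rw [div_le_one (by linarith)]; linarith⟩
  simp only [Set.mem_insert_iff, Set.mem_singleton_iff] at this
  rcases this with h | h | h | h | h <;> field_simp at h
  · norm_num at h
  · right; right; exact_mod_cast (by linarith : (m : ℚ) = 6)
  · right; left; exact_mod_cast (by linarith : (m : ℚ) = 4)
  · left; exact_mod_cast (by linarith : (m : ℚ) = 3)
  · linarith

/-- The arithmetic part of the Feit–Higman theorem. -/
theorem feit_higman_arith (m a b : ℕ) (hm : 3 ≤ m) (ha : 2 ≤ a) (hb : 2 ≤ b)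
    (hodd : Odd m → a = b)
    (key : ∀ j : ℕ, 0 < j → 2 * j < m → ∀ θ : ℝ,
      θ = 2 * sqrt ((a : ℝ) * b) * cos (2 * π * j / m) → ∃ R : ℚ,
      4 * ((a : ℝ) * b) - θ ^ 2 = R * (((a : ℝ) * b + 1 - θ) * ((a : ℝ) + b + θ))) :
    m = 3 ∨ m = 4 ∨ m = 6 ∨ m = 8 := by
  have ha' : (2 : ℝ) ≤ a := by exact_mod_cast ha
  have hb' : (2 : ℝ) ≤ b := by exact_mod_cast hb
  set c := sqrt ((a : ℝ) * b) with hc
  have hcpos : 0 < c := sqrt_pos.2 (by positivity)
  have hc2 : c * c = (a : ℝ) * b := mul_self_sqrt (by positivity)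
  have hA : 2 * c < (a : ℝ) * b + 1 := by
    have : c ≠ 1 := fun h => by rw [h] at hc2; nlinarith
    nlinarith [mul_self_pos.2 (sub_ne_zero.2 this)]
  have hB : 2 * c ≤ (a : ℝ) + b := by nlinarith [sq_nonneg ((a : ℝ) - b)]
  rcases Nat.even_or_odd m with ⟨r, hr⟩ | hmodd
  swap
  · -- odd `m`
    obtain rfl := hodd hmodd
    have hca : c = a := by rw [hc, sqrt_mul_self (by positivity)]
    obtain ⟨R, hR⟩ := key 1 one_pos (by omega) _ rfl
    simp only [Nat.cast_one, mul_one] at hR
    have hlt : cos (2 * π / m) < 1 := by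
      have hm0 : (0 : ℝ) < m := by positivity
      rw [← cos_zero]
      refine cos_lt_cos_of_nonneg_of_le_pi le_rfl ?_ (by positivity)
      rw [div_le_iff₀ hm0]
      have : (2 : ℝ) ≤ m := by exact_mod_cast (by omega : 2 ≤ m)
      nlinarith [pi_pos]
    have hgt : -1 < cos (2 * π / m) := by
      have hm0 : (0 : ℝ) < m := by positivity
      rw [← cos_pi]
      refine cos_lt_cos_of_nonneg_of_le_pi (by positivity) le_rfl ?_
      rw [div_lt_iff₀ hm0]
      have : (2 : ℝ) < m := by exact_mod_cast (by omega : 2 < m)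
      nlinarith [pi_pos]
    rw [hca] at hR hA
    set x := cos (2 * π / m) with hx
    have hne : (a : ℝ) + a + 2 * a * x ≠ 0 := by nlinarith
    have h1 : 2 * (a : ℝ) - 2 * a * x = R * ((a : ℝ) * a + 1 - 2 * a * x) := by
      apply mul_right_cancel₀ hne
      linear_combination hR
    have hR1 : (R : ℝ) ≠ 1 := fun h => by rw [h] at h1; linarith
    have hrat : ∃ q : ℚ, x = q := by
      refine ⟨(R * ((a : ℚ) * a + 1) - 2 * a) / (2 * a * (R - 1)), ?_⟩
      have h3 : (2 * (a : ℝ) * ((R : ℝ) - 1)) ≠ 0 :=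
        mul_ne_zero (by positivity) (sub_ne_zero.2 hR1)
      push_cast
      rw [eq_div_iff h3]
      linear_combination h1
    rcases rat_cos_cases hm hrat with h | h | h
    · exact Or.inl h
    · rw [h] at hmodd; exact absurd hmodd (by decide)
    · rw [h] at hmodd; exact absurd hmodd (by decide)
  · -- even `m = r + r`
    clear hodd
    obtain rfl | hr3 : r = 2 ∨ 3 ≤ r := by omega
    · omega
    subst hr
    have hr0 : (0 : ℝ) < r := by positivity
    have hangle : ∀ j : ℕ, 2 * π * j / ((r + r : ℕ) : ℝ) = π * j / r := fun j => by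
      push_cast; field_simp; ring
    have rat_of : ∀ j : ℕ, 0 < j → 2 * j < r + r → 0 < cos (π * j / r) →
        ∀ θ : ℝ, θ = 2 * c * cos (π * j / r) →
        ∃ p q : ℚ, (p : ℝ) < 0 ∧ θ ^ 2 - p * θ + q = 0 := by
      intro j hj0 hjr hcos θ hθ
      obtain ⟨R, hR⟩ := key j hj0 hjr θ (by rw [hangle]; exact hθ)
      have hθ0 : 0 < θ := by rw [hθ]; positivity
      have hθ2 : θ < 2 * c := by
        rw [hθ]
        have : cos (π * j / r) < 1 := by
          rw [← cos_zero]
          refine cos_lt_cos_of_nonneg_of_le_pi le_rfl ?_ (by positivity)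
          rw [div_le_iff₀ hr0]
          have : (j : ℝ) ≤ r := by exact_mod_cast (by omega : j ≤ r)
          nlinarith [pi_pos]
        nlinarith
      have hαβ : 0 < ((a : ℝ) - 1) * ((b : ℝ) - 1) := by nlinarith
      have hAB : 4 * ((a : ℝ) * b) ≤ ((a : ℝ) * b + 1) * ((a : ℝ) + b) := by
        nlinarith [mul_le_mul hA.le hB (by positivity) (by positivity)]
      have hden : 0 < ((a : ℝ) * b + 1 - θ) * ((a : ℝ) + b + θ) :=
        mul_pos (by linarith) (by linarith)
      have hRpos : 0 < (R : ℝ) := by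
        by_contra hle
        push Not at hle
        have : 4 * ((a : ℝ) * b) - θ ^ 2 ≤ 0 := hR ▸ mul_nonpos_of_nonpos_of_nonneg hle hden.le
        nlinarith
      have hR1 : (R : ℝ) < 1 := by
        by_contra hle
        push Not at hle
        have h1 := le_mul_of_one_le_left hden.le hle
        rw [← hR] at h1
        nlinarith [mul_pos hαβ hθ0]
      refine ⟨-R * ((a * b + 1 : ℚ) - (a + b)) / (1 - R),
        (R * ((a * b + 1 : ℚ) * (a + b)) - 4 * (a * b)) / (1 - R), ?_, ?_⟩
      · push_cast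
        have h2 : 0 < (R : ℝ) * (((a : ℝ) - 1) * ((b : ℝ) - 1)) := mul_pos hRpos hαβ
        rw [div_lt_iff₀ (by linarith)]
        nlinarith
      · push_cast
        have h3 : (1 : ℝ) - R ≠ 0 := by linarith
        field_simp
        linear_combination -hR
    -- the largest `θ` is rational
    set θ : ℕ → ℝ := fun j => 2 * c * cos (π * j / r) with hθdef
    have hcos1 : 0 < cos (π * (1 : ℕ) / r) := by
      refine cos_pos_of_mem_Ioo ⟨?_, ?_⟩
      · push_cast; have : 0 < π * 1 / r := by positivity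
        linarith [pi_pos]
      · push_cast; rw [div_lt_iff₀ hr0]
        have : (3 : ℝ) ≤ r := by exact_mod_cast hr3
        nlinarith [pi_pos]
    obtain ⟨p, q, hp, hquad⟩ := rat_of 1 one_pos (by omega) hcos1 _ rfl
    have hθrat : ∃ w : ℚ, θ 1 = w := by
      by_contra hirr
      push Not at hirr
      open Polynomial in
      (
      let Q : ℚ[X] := X ^ 2 - C p * X + C q
      have hQm : Q.Monic := by simp only [Q]; monicity!
      have hQd : Q.natDegree = 2 := by simp only [Q]; compute_degree!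
      have hQ0 : aeval (θ 1) Q = 0 := by simpa [Q, hθdef] using hquad
      have hint : IsIntegral ℚ (θ 1) := ⟨Q, hQm, by rwa [← aeval_def]⟩
      have h2 : 2 ≤ (minpoly ℚ (θ 1)).natDegree :=
        (minpoly.two_le_natDegree_iff hint).2 fun ⟨w, hw⟩ => hirr w (by simpa using hw.symm)
      have hmin : minpoly ℚ (θ 1) = Q :=
        (eq_of_monic_of_dvd_of_natDegree_le (minpoly.monic hint) hQm (minpoly.dvd ℚ _ hQ0)
          (by omega)).symm
      set U : ℚ[X] := chebU ((a : ℚ) * b) X r with hU
      obtain ⟨r', hr'⟩ : ∃ r', r = r' + 1 := ⟨r - 1, by omega⟩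
      obtain ⟨hUd, hUc⟩ := chebU_X_spec ((a : ℚ) * b) r'
      rw [← hr', ← hU] at hUd hUc
      have hU0 : U ≠ 0 := fun h => by rw [h] at hUc; simp at hUc
      have hroot : ∀ j : ℕ, 0 < j → j < r → aeval (θ j) U = 0 := by
        intro j hj0 hjr
        have h1 := chebU_two_mul_cos hc2 (φ := π * j / r) r
        have e : sin ((r : ℝ) * (π * j / r)) = 0 := by
          rw [show (r : ℝ) * (π * j / r) = (j : ℕ) * π by field_simp]
          exact sin_nat_mul_pi j
        rw [e, mul_zero] at h1
        have hs : 0 < sin (π * j / r) := by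
          have hj0' : (0 : ℝ) < j := by exact_mod_cast hj0
          refine sin_pos_of_pos_of_lt_pi (by positivity) ?_
          rw [div_lt_iff₀ hr0]
          have : (j : ℝ) < r := by exact_mod_cast hjr
          nlinarith [pi_pos]
        rw [hU, aeval_chebU]
        push_cast
        rcases mul_eq_zero.1 h1 with h | h
        · exact absurd h (mul_ne_zero hcpos.ne' hs.ne')
        · exact h
      have hanti : ∀ i j : ℕ, i < j → j ≤ r → θ j < θ i := by
        intro i j hij hjr
        have : cos (π * j / r) < cos (π * i / r) := by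
          refine cos_lt_cos_of_nonneg_of_le_pi (by positivity) ?_ ?_
          · rw [div_le_iff₀ hr0]
            have : (j : ℝ) ≤ r := by exact_mod_cast hjr
            nlinarith [pi_pos]
          · have : (i : ℝ) < j := by exact_mod_cast hij
            gcongr
        simp only [hθdef]
        nlinarith
      have hneg : θ (r - 1) = -θ 1 := by
        simp only [hθdef]
        rw [Nat.cast_sub (by omega), Nat.cast_one,
          show π * ((r : ℝ) - 1) / r = π - π * 1 / r by field_simp, cos_pi_sub]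
        ring
      set x : ℝ := (p : ℝ) - θ 1 with hx
      have hxQ : aeval x Q = 0 := by
        simp only [Q, map_add, map_sub, map_mul, map_pow, aeval_X, aeval_C, eq_ratCast, hx]
        simp only [hθdef] at hquad ⊢
        linear_combination hquad
      have hxU : aeval x U = 0 := by
        obtain ⟨V, hV⟩ := minpoly.dvd ℚ (θ 1) (hroot 1 one_pos (by omega))
        rw [hV, map_mul, hmin, hxQ, zero_mul]
      classical
      let Z : Finset ℝ := insert x ((Finset.Ico 1 r).image θ)
      have hxlt : ∀ j ∈ Finset.Ico 1 r, x < θ j := by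
        intro j hj
        rw [Finset.mem_Ico] at hj
        have : θ (r - 1) ≤ θ j := by
          rcases (by omega : j < r - 1 ∨ j = r - 1) with h | h
          · exact (hanti _ _ h (by omega)).le
          · rw [h]
        rw [hneg] at this
        linarith
      have hZcard : Z.card = r := by
        rw [Finset.card_insert_of_notMem, Finset.card_image_of_injOn, Nat.card_Ico]
        · omega
        · intro i hi j hj hij
          simp only [Finset.coe_Ico, Set.mem_Ico] at hi hj
          by_contra hne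
          rcases Nat.lt_or_gt_of_ne hne with h | h
          · exact absurd hij (hanti _ _ h (by omega)).ne'
          · exact absurd hij (hanti _ _ h (by omega)).ne
        · intro hmem
          obtain ⟨j, hj, he⟩ := Finset.mem_image.1 hmem
          exact absurd he (hxlt j hj).ne'
      have hUR : U.map (algebraMap ℚ ℝ) ≠ 0 := map_ne_zero hU0
      have hsub : Z.val ⊆ (U.map (algebraMap ℚ ℝ)).roots := by
        intro z hz
        rw [mem_roots hUR, IsRoot.def, eval_map, ← aeval_def]
        rcases (Finset.mem_insert.1 (Finset.mem_def.2 hz) : z = x ∨ z ∈ (Finset.Ico 1 r).image θ) with rfl | hz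
        · exact hxU
        · obtain ⟨j, hj, rfl⟩ := Finset.mem_image.1 hz
          rw [Finset.mem_Ico] at hj
          exact hroot j (by omega) hj.2
      have := card_le_degree_of_subset_roots hsub
      rw [natDegree_map, hZcard] at this
      omega)
    obtain ⟨w, hw⟩ := hθrat
    have hcos2 : cos (2 * π / r) = ((w ^ 2 / (2 * (a * b)) - 1 : ℚ) : ℝ) := by
      have e : cos (2 * π / r) = 2 * cos (π * (1 : ℕ) / r) ^ 2 - 1 := by
        rw [← cos_two_mul]; congr 1; push_cast; ring
      push_cast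
      rw [e, ← hw]
      simp only [hθdef]
      rw [← hc2]
      field_simp
    rcases rat_cos_cases hr3 ⟨_, hcos2⟩ with rfl | rfl | rfl
    · omega
    · omega
    · -- `m = 12`: then `√(ab)` and `√(3ab)` would both be rational
      exfalso
      have hcos6 : cos (π * (2 : ℕ) / (6 : ℕ)) = 1 / 2 := by
        rw [show π * ((2 : ℕ) : ℝ) / ((6 : ℕ) : ℝ) = π / 3 by push_cast; ring, cos_pi_div_three]
      obtain ⟨p2, q2, hp2, hquad2⟩ :=
        rat_of 2 two_pos (by omega) (by rw [hcos6]; norm_num) c (by rw [hcos6]; ring)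
      have hcrat : ∃ v : ℚ, c = v := by
        refine ⟨((a : ℚ) * b + q2) / p2, ?_⟩
        have hp2' : (p2 : ℝ) ≠ 0 := hp2.ne
        push_cast
        rw [eq_div_iff hp2']
        linear_combination -hquad2 + hc2
      obtain ⟨v, hv⟩ := hcrat
      have h3 : θ 1 = c * sqrt 3 := by
        simp only [hθdef]
        rw [show π * ((1 : ℕ) : ℝ) / ((6 : ℕ) : ℝ) = π / 6 by push_cast; ring, cos_pi_div_six]
        ring
      rw [hw] at h3
      have hirr : Irrational (sqrt ((3 : ℕ) : ℝ)) := Nat.prime_three.irrational_sqrt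
      refine hirr ⟨w / v, ?_⟩
      push_cast
      rw [← hv, h3]
      field_simp

end Cfsg.Agent.BN
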