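import Cfsg.Agent.Lib.BN.Hecke
import Cfsg.Agent.Lib.BN.Dihedral
import Cfsg.Agent.Lib.BN.FeitHigman
import Cfsg.Agent.Lib.BN.FeitHigmanNum

/-!
# The Feit–Higman theorem for finite (B,N)-pairs of rank two
-/

set_option autoImplicit false

namespace Cfsg.Agent.BN

open Real

/-- `x y x ⋯` with `n` factors. -/
def altProd {M : Type*} [Monoid M] : M → M → ℕ → M
  | _, _, 0 => 1
  | x, y, n + 1 => x * altProd y x n

lemma altProd_two_mul {M : Type*} [Monoid M] (x y : M) : ∀ i : ℕ, altProd x y (2 * i) = (x * y) ^ i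
  | 0 => by simp [altProd]
  | i + 1 => by
    rw [Nat.mul_succ, altProd, altProd, altProd_two_mul x y i, pow_succ', mul_assoc]

lemma altProd_two_mul_add_one {M : Type*} [Monoid M] (x y : M) :
    ∀ i : ℕ, altProd x y (2 * i + 1) = (x * y) ^ i * x
  | 0 => by simp [altProd]
  | i + 1 => by
    rw [show 2 * (i + 1) + 1 = (2 * i + 1) + 2 by ring, altProd, altProd,
      altProd_two_mul_add_one x y i, pow_succ']
    simp only [mul_assoc]

variable {G : Type*} [Group G] (P : Cfsg.BNPair G) [Fintype (G ⧸ P.B)]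

open scoped Classical in
lemma adj_altW {s t : P.S} {m : ℕ} (hm : m = orderOf (sigma P s * sigma P t)) :
    ∀ k, k ≤ m →
      (adj P (wprod (sigma P) (altW s t k)) = altProd (adj P (sigma P s)) (adj P (sigma P t)) k ∧
       qw P (wprod (sigma P) (altW s t k)) = altProd (qw P (sigma P s)) (qw P (sigma P t)) k) ∧
      (adj P (wprod (sigma P) (altW t s k)) = altProd (adj P (sigma P t)) (adj P (sigma P s)) k ∧
       qw P (wprod (sigma P) (altW t s k)) = altProd (qw P (sigma P t)) (qw P (sigma P s)) k) := by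
  intro k
  induction k with
  | zero => intro _; simp [altW, altProd, adj_one, qw_one]
  | succ k ih =>
    intro hk
    obtain ⟨⟨h1, h2⟩, h3, h4⟩ := ih (by omega)
    have hlen := (hasExchange P).wlen_altW hm
    have e1 : len P (wprod (sigma P) (altW t s k)) <
        len P (sigma P s * wprod (sigma P) (altW t s k)) := by
      rw [← wprod_cons, ← altW.eq_2 s t k, len, len, (hlen _ hk).1, (hlen k (by omega)).2]
      omega
    have e2 : len P (wprod (sigma P) (altW s t k)) <
        len P (sigma P t * wprod (sigma P) (altW s t k)) := by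
      rw [← wprod_cons, ← altW.eq_2 t s k, len, len, (hlen _ hk).2, (hlen k (by omega)).1]
      omega
    refine ⟨⟨?_, ?_⟩, ?_, ?_⟩ <;> rw [altW, wprod_cons, altProd]
    · rw [← adj_simple_mul P s e1, h3]
    · rw [qw_simple_mul P s e1, h4]
    · rw [← adj_simple_mul P t e2, h1]
    · rw [qw_simple_mul P t e2, h2]

open scoped Classical in
theorem feit_higman [Finite G] {s t : P.S} (hne : s ≠ t) (hst : ∀ x : P.S, x = s ∨ x = t) :
    Nat.card (Weyl P) = 4 ∨ Nat.card (Weyl P) = 6 ∨ Nat.card (Weyl P) = 8 ∨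
      Nat.card (Weyl P) = 12 ∨ Nat.card (Weyl P) = 16 := by
  have hex := hasExchange P
  rw [hex.card_eq_two_mul hst]
  set m := orderOf (sigma P s * sigma P t) with hm
  have hmpos : 0 < m := orderOf_pos _
  have hm1 : m ≠ 1 := fun h => by
    rw [hm, orderOf_eq_one_iff, mul_eq_one_iff_eq_inv, sigma_inv'] at h
    exact hne (sigma_inj P h)
  obtain hm2 | hm3 : m = 2 ∨ 3 ≤ m := by omega
  · omega
  set a := qw P (sigma P s) with ha
  set b := qw P (sigma P t) with hb
  set S := adj P (sigma P s) with hSdef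
  set T := adj P (sigma P t) with hTdef
  have hS : S * S = (a : ℝ) • 1 + ((a : ℝ) - 1) • S := adj_simple_sq P s
  have hT : T * T = (b : ℝ) • 1 + ((b : ℝ) - 1) • T := adj_simple_sq P t
  have hA := adj_altW P hm
  have htop : wprod (sigma P) (altW s t m) = wprod (sigma P) (altW t s m) := hex.altW_top hm
  have htopA : altProd S T m = altProd T S m := by
    rw [← (hA m le_rfl).1.1, ← (hA m le_rfl).2.1, htop]
  have hab : Odd m → a = b := by
    rintro ⟨i, hi⟩
    have e : altProd a b m = altProd b a m := by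
      rw [← (hA m le_rfl).1.2, ← (hA m le_rfl).2.2, htop]
    rw [hi, altProd_two_mul_add_one, altProd_two_mul_add_one, mul_comm b a] at e
    exact Nat.eq_of_mul_eq_mul_left (pow_pos (Nat.mul_pos (zero_lt_two.trans_le (two_le_qw P s))
      (zero_lt_two.trans_le (two_le_qw P t))) i) e
  have ha2 : 2 ≤ a := two_le_qw P s
  have hb2 : 2 ≤ b := two_le_qw P t
  suffices h : m = 3 ∨ m = 4 ∨ m = 6 ∨ m = 8 by omega
  refine feit_higman_arith m a b hm3 ha2 hb2 hab fun j hj hjm θ hθ => ?_
  have ha' : (2 : ℝ) ≤ a := by exact_mod_cast ha2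
  have hb' : (2 : ℝ) ≤ b := by exact_mod_cast hb2
  set c := sqrt ((a : ℝ) * b) with hc
  have hcpos : 0 < c := sqrt_pos.2 (by positivity)
  have hc2 : c * c = (a : ℝ) * b := mul_self_sqrt (by positivity)
  set φ : ℝ := 2 * π * j / m with hφ
  have hmR : (0 : ℝ) < m := by exact_mod_cast hmpos
  have hsin : 0 < sin φ := by
    refine sin_pos_of_pos_of_lt_pi ?_ ?_
    · have : (0 : ℝ) < j := by exact_mod_cast hj
      positivity
    · rw [hφ, div_lt_iff₀ hmR]
      have : (2 * j : ℝ) < m := by exact_mod_cast hjm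
      nlinarith [pi_pos]
  have hmφ : (m : ℝ) * φ = (j : ℕ) * (2 * π) := by rw [hφ]; field_simp
  set h := (m - 1) / 2 with hh
  set v : ℕ → ℝ := fun k => sin ((k : ℝ) * φ) / c ^ k with hvdef
  have hv : ∀ k, v k + (a : ℝ) * b * v (k + 2) = θ * v (k + 1) := by
    intro k
    simp only [hvdef, ← hc2, hθ]
    push_cast
    rw [show ((k : ℝ) + 2) * φ = ((k : ℝ) + 1) * φ + φ by ring,
      show (k : ℝ) * φ = ((k : ℝ) + 1) * φ - φ by ring, sin_add, sin_sub]
    field_simp
    ring
  have hbd : v h • heckeZ S T (h + 1) = ((a : ℝ) * b * v (h + 1)) • heckeZ S T h := by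
    rcases Nat.even_or_odd m with ⟨r, hr⟩ | hmo
    · have e : 2 * (h + 1) = m := by omega
      have hz : heckeZ S T (h + 1) = 0 := by
        rw [heckeZ, ← altProd_two_mul, ← altProd_two_mul, e, htopA, sub_self]
      have hv0 : v (h + 1) = 0 := by
        have e' : ((h + 1 : ℕ) : ℝ) * φ = (j : ℕ) * π := by
          have : (2 : ℝ) * ((h + 1 : ℕ) : ℝ) = m := by exact_mod_cast e
          linear_combination (1 / 2 : ℝ) * hmφ + (φ / 2) * this
        simp only [hvdef]
        rw [e', sin_nat_mul_pi, zero_div]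
      rw [hz, hv0, smul_zero, mul_zero, zero_smul]
    · have e : 2 * h + 1 = m := by obtain ⟨i, hi⟩ := hmo; omega
      have hab' : a = b := hab hmo
      rw [← e, altProd_two_mul_add_one, altProd_two_mul_add_one] at htopA
      have hz : heckeZ S T (h + 1) = (-(a : ℝ)) • heckeZ S T h := by
        have e1 : (S * T) ^ (h + 1) = (T * S) ^ h * (T * T) := by
          rw [pow_succ, ← mul_assoc ((S * T) ^ h), htopA, mul_assoc]
        have e2 : (T * S) ^ (h + 1) = (S * T) ^ h * (S * S) := by
          rw [pow_succ, ← mul_assoc ((T * S) ^ h), ← htopA, mul_assoc]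
        rw [heckeZ, e1, e2, hS, hT, ← hab', mul_add, mul_add, mul_smul_comm, mul_smul_comm,
          mul_smul_comm, mul_smul_comm, mul_one, mul_one, htopA, heckeZ]
        module
      have hv1 : (a : ℝ) * v (h + 1) = -v h := by
        have hca : c = a := by rw [hc, ← hab', sqrt_mul_self (by positivity)]
        have es : sin (((h + 1 : ℕ) : ℝ) * φ) = -sin ((h : ℝ) * φ) := by
          have : 2 * (h : ℝ) + 1 = m := by exact_mod_cast e
          rw [show ((h + 1 : ℕ) : ℝ) * φ = -((h : ℝ) * φ) + (j : ℕ) * (2 * π) by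
            push_cast; linear_combination φ * this + hmφ,
            sin_add_nat_mul_two_pi, sin_neg]
        simp only [hvdef, es, hca, pow_succ]
        field_simp
      rw [hz, smul_smul, ← hab', mul_assoc, hv1]
      congr 1
      ring
  have hv0 : v 0 = 0 := by simp [hvdef]
  have hKK := heckeK_mul_self hS hT hv0 hv hbd
  set K := heckeK S T v h with hK
  -- the scalar
  have hsum : ∑ k ∈ Finset.range h, v (k + 1) * chebU ((a : ℝ) * b) θ (k + 1)
      = (m : ℝ) / 4 / (c * sin φ) := by
    rw [← sum_sin_sq hj hjm, Finset.sum_div]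
    refine Finset.sum_congr rfl fun k _ => ?_
    have h1 := chebU_two_mul_cos hc2 (φ := φ) (k + 1)
    rw [hθ]
    simp only [hvdef, ← hφ]
    field_simp
    linear_combination sin (((k + 1 : ℕ) : ℝ) * φ) * h1
  rw [hsum] at hKK
  have hθ2 : θ ^ 2 = 4 * ((a : ℝ) * b) * cos φ ^ 2 := by rw [hθ, mul_pow, mul_pow, sq c, hc2]; ring
  have hθlt : θ < (a : ℝ) * b + 1 := by
    have : θ ≤ 2 * c := by rw [hθ]; nlinarith [cos_le_one φ]
    have hne : c ≠ 1 := fun h => by rw [h] at hc2; nlinarith
    nlinarith [mul_self_pos.2 (sub_ne_zero.2 hne)]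
  have hθgt : 0 < θ + ((a : ℝ) + b) := by
    have hcos : -1 < cos φ := by
      rw [← cos_pi]
      refine cos_lt_cos_of_nonneg_of_le_pi (by positivity) le_rfl ?_
      rw [hφ, div_lt_iff₀ hmR]
      have : (2 * j : ℝ) < m := by exact_mod_cast hjm
      nlinarith [pi_pos]
    have hB : 2 * c ≤ (a : ℝ) + b := by nlinarith [sq_nonneg ((a : ℝ) - b)]
    rw [hθ]
    nlinarith [mul_pos hcpos (show 0 < 1 + cos φ by linarith)]
  set l : ℝ := (θ - ((a : ℝ) * b + 1)) * (θ + ((a : ℝ) + b)) * ((m : ℝ) / 4 / (c * sin φ)) with hl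
  have hl0 : l ≠ 0 :=
    mul_ne_zero (mul_ne_zero (by linarith) hθgt.ne') (div_ne_zero (by positivity) (by positivity))
  -- trace of the idempotent
  obtain ⟨n, hn⟩ : ∃ n : ℕ, Matrix.trace K = l * n := by
    set E := l⁻¹ • K with hE
    have hEE : E * E = E := by
      rw [hE, smul_mul_assoc, mul_smul_comm, hKK, smul_smul, smul_smul]
      congr 1
      field_simp
    have hproj := LinearMap.IsIdempotentElem.isProj_range (Matrix.toLin' E)
      (by rw [IsIdempotentElem, Module.End.mul_eq_comp, ← Matrix.toLin'_mul, hEE])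
    have htr := hproj.trace
    rw [Matrix.trace_toLin'_eq, hE, Matrix.trace_smul, smul_eq_mul] at htr
    exact ⟨_, by rw [← htr]; field_simp⟩
  set N := Fintype.card (G ⧸ P.B) with hN
  have hNpos : 0 < N := Fintype.card_pos
  have htrace : Matrix.trace K = v 1 * (-2 * ((a : ℝ) * b) * N) := by
    have hh0 : 0 < h := by omega
    rw [hK, heckeK, Finset.sum_mul, Matrix.trace_sum,
      Finset.sum_eq_single 0 (fun k hk hk0 => ?_) (fun h0 => absurd (Finset.mem_range.2 hh0) h0)]
    swap
    all_goals rw [smul_mul_assoc, Matrix.trace_smul, smul_eq_mul]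
    · -- `k ≥ 1`
      have hk' : k < h := Finset.mem_range.1 hk
      have e : ∀ i, i ≤ h → (S * T) ^ i = adj P ((sigma P s * sigma P t) ^ i) ∧
          (T * S) ^ i = adj P ((sigma P t * sigma P s) ^ i) := fun i hi => by
        rw [← wprod_altW_two_mul, ← wprod_altW_two_mul, ← altProd_two_mul, ← altProd_two_mul,
          (hA _ (by omega)).1.1, (hA _ (by omega)).2.1]
        exact ⟨rfl, rfl⟩
      rw [show (sigma P t * sigma P s) = (sigma P s * sigma P t)⁻¹ by
        rw [mul_inv_rev, sigma_inv', sigma_inv']] at e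
      have hz : Matrix.trace (heckeZ S T (k + 1) * heckeZ S T 1) = 0 := by
        simp only [heckeZ, (e (k + 1) hk').1, (e (k + 1) hk').2, (e 1 (by omega)).1,
          (e 1 (by omega)).2, sub_mul, mul_sub, Matrix.trace_sub, trace_adj_mul, pow_one, inv_pow,
          inv_inv]
        have hn0 : ∀ i : ℕ, 0 < i → i < m → (sigma P s * sigma P t) ^ i ≠ 1 := fun i hi0 him he =>
          absurd (Nat.le_of_dvd hi0 (orderOf_dvd_of_pow_eq_one he)) (by omega)
        have h1 : sigma P s * sigma P t ≠ ((sigma P s * sigma P t) ^ (k + 1))⁻¹ := fun he => by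
          refine hn0 (k + 2) (by omega) (by omega) ?_
          rw [pow_succ', ← mul_eq_one_iff_eq_inv.2 he]
        have h2 : sigma P s * sigma P t ≠ (sigma P s * sigma P t) ^ (k + 1) := fun he => by
          refine hn0 k (by omega) (by omega) ?_
          rw [pow_succ] at he
          exact mul_eq_right.1 he.symm
        have h3 : (sigma P s * sigma P t)⁻¹ ≠ (sigma P s * sigma P t) ^ (k + 1) := fun he =>
          h1 (by rw [← he, inv_inv])
        have h4 : (sigma P s * sigma P t)⁻¹ ≠ ((sigma P s * sigma P t) ^ (k + 1))⁻¹ := fun he =>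
          h2 (inv_injective he)
        simp only [h1, h2, h3, h4, if_false, sub_zero]
      rw [hz, mul_zero]
    · have e := hA 2 (by omega)
      simp only [altW, altProd, wprod_cons, wprod_nil, mul_one, ← hSdef, ← hTdef, ← ha, ← hb] at e
      have hne1 : (sigma P s * sigma P t) ≠ (sigma P s * sigma P t)⁻¹ := fun he => by
        have : (sigma P s * sigma P t) ^ 2 = 1 := by rw [pow_two, mul_eq_one_iff_eq_inv.2 he]
        have := Nat.le_of_dvd two_pos (orderOf_dvd_of_pow_eq_one this)
        omega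
      have hts : sigma P t * sigma P s = (sigma P s * sigma P t)⁻¹ := by
        rw [mul_inv_rev, sigma_inv', sigma_inv']
      congr 1
      simp only [heckeZ, zero_add, pow_one]
      rw [← e.1.1, ← e.2.1, hts]
      simp only [sub_mul, mul_sub, Matrix.trace_sub, trace_adj_mul, inv_inv]
      simp only [hne1, Ne.symm hne1, if_true, if_false]
      rw [← hts, e.1.2, e.2.2]
      push_cast
      ring
  rw [htrace] at hn
  refine ⟨(n : ℚ) * m / (2 * N), ?_⟩
  simp only [hvdef, Nat.cast_one, one_mul, pow_one] at hn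
  rw [hl] at hn
  push_cast
  rw [hθ2]
  have hs2 : sin φ ^ 2 = 1 - cos φ ^ 2 := sin_sq φ
  have hN' : (0 : ℝ) < N := by exact_mod_cast hNpos
  field_simp at hn ⊢
  linear_combination (-1 : ℝ) * hn - (8 * (a : ℝ) * b * N) * hs2

end Cfsg.Agent.BN
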