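import Cfsg.Agent.Lib.BN.Bruhat

/-!
# The Hecke algebra of a finite (B,N)-pair acting on `G/B`

* `adj P w` : the `0/1` matrix of the relation `x⁻¹ y ∈ B w B` on `G ⧸ B`; `qw P w` its row sum;
* `adj_one`, `adj_simple_mul`, `adj_simple_sq`, `trace_adj_mul`, `qw_simple_mul`, `two_le_qw`.
-/

set_option autoImplicit false

namespace Cfsg.Agent.BN

variable {G : Type*} [Group G] (P : Cfsg.BNPair G)

/-- The relation `x⁻¹ y ∈ B w B` between cosets. -/
def Adj (w : Weyl P) (x y : G ⧸ P.B) : Prop := x.out⁻¹ * y.out ∈ C P w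

lemma adj_mk_iff (w : Weyl P) (g h : G) :
    Adj P w (g : G ⧸ P.B) (h : G ⧸ P.B) ↔ g⁻¹ * h ∈ C P w := by
  obtain ⟨a, ha⟩ := QuotientGroup.mk_out_eq_mul P.B g
  obtain ⟨b, hb⟩ := QuotientGroup.mk_out_eq_mul P.B h
  rw [Adj, ha, hb, show (g * (a : G))⁻¹ * (h * (b : G)) = (a : G)⁻¹ * (g⁻¹ * h) * b by group]
  refine ⟨fun hh => ?_, fun hh => mul_mem_C_right P (mul_mem_C_left P (inv_mem a.2) hh) b.2⟩
  have := mul_mem_C_right P (mul_mem_C_left P a.2 hh) (inv_mem b.2)
  simpa [mul_assoc] using this

lemma adj_unique {v w : Weyl P} {x y : G ⧸ P.B} (hv : Adj P v x y) (hw : Adj P w x y) : v = w :=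
  C_unique P hv hw

lemma adj_one_iff {x y : G ⧸ P.B} : Adj P 1 x y ↔ x = y := by
  induction x using QuotientGroup.induction_on with
  | H g =>
    induction y using QuotientGroup.induction_on with
    | H h => rw [adj_mk_iff, mem_C_one_iff, QuotientGroup.eq]

lemma adj_inv_iff {w : Weyl P} {x y : G ⧸ P.B} : Adj P w x y ↔ Adj P w⁻¹ y x := by
  constructor
  · intro h
    have := inv_mem_C P h
    rwa [mul_inv_rev, inv_inv] at this
  · intro h
    have := inv_mem_C P h
    rwa [mul_inv_rev, inv_inv, inv_inv] at this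

lemma adj_simple_left (s : P.S) {w : Weyl P} {x y z : G ⧸ P.B} (h1 : Adj P (sigma P s) x z)
    (h2 : Adj P w z y) : Adj P (sigma P s * w) x y ∨ Adj P w x y := by
  have := mul_left_simple P s h1 h2
  rwa [show x.out⁻¹ * z.out * (z.out⁻¹ * y.out) = x.out⁻¹ * y.out by group] at this

lemma adj_simple_reduced (s : P.S) {w : Weyl P} (hle : len P w ≤ len P (sigma P s * w))
    {x y z : G ⧸ P.B} (h1 : Adj P (sigma P s) x z) (h2 : Adj P w z y) :
    Adj P (sigma P s * w) x y := by
  have := mul_reduced P s hle h1 h2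
  rwa [show x.out⁻¹ * z.out * (z.out⁻¹ * y.out) = x.out⁻¹ * y.out by group] at this

lemma adj_exists_mid {v w : Weyl P} {x y : G ⧸ P.B} (h : Adj P (v * w) x y) :
    ∃ z, Adj P v x z ∧ Adj P w z y := by
  obtain ⟨a, ha, b, hb, he⟩ := exists_mul_eq P h
  induction x using QuotientGroup.induction_on with
  | H g =>
    induction y using QuotientGroup.induction_on with
    | H k =>
      obtain ⟨a', b', hab, ha', hb'⟩ : ∃ a' b', g⁻¹ * k = a' * b' ∧ a' ∈ C P v ∧ b' ∈ C P w := by
        obtain ⟨c, hc⟩ := QuotientGroup.mk_out_eq_mul P.B g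
        obtain ⟨d, hd⟩ := QuotientGroup.mk_out_eq_mul P.B k
        refine ⟨(c : G) * a, b * (d : G)⁻¹, ?_, mul_mem_C_left P c.2 ha,
          mul_mem_C_right P hb (inv_mem d.2)⟩
        rw [show (c : G) * a * (b * (d : G)⁻¹) = c * (a * b) * (d : G)⁻¹ by group, ← he, hc, hd]
        group
      refine ⟨((g * a' : G) : G ⧸ P.B), (adj_mk_iff P v g _).2 (by simpa using ha'),
        (adj_mk_iff P w _ k).2 ?_⟩
      rw [show (g * a')⁻¹ * k = a'⁻¹ * (g⁻¹ * k) by group, hab, inv_mul_cancel_left]
      exact hb'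

open scoped Classical in
/-- The adjacency matrix of `w`. -/
noncomputable def adj (w : Weyl P) : Matrix (G ⧸ P.B) (G ⧸ P.B) ℝ :=
  fun x y => if Adj P w x y then 1 else 0

variable [Fintype (G ⧸ P.B)]

open scoped Classical in
/-- The number of cosets in `B w B`. -/
noncomputable def qw (w : Weyl P) : ℕ :=
  (Finset.univ.filter fun y => Adj P w ((1 : G) : G ⧸ P.B) y).card

open scoped Classical in
lemma card_row (w : Weyl P) (x : G ⧸ P.B) :
    (Finset.univ.filter fun y => Adj P w x y).card = qw P w := by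
  induction x using QuotientGroup.induction_on with
  | H g =>
    refine (Finset.card_equiv (MulAction.toPerm g) fun y => ?_).symm
    induction y using QuotientGroup.induction_on with
    | H h =>
      simp only [Finset.mem_filter, Finset.mem_univ, true_and, MulAction.toPerm_apply,
        MulAction.Quotient.smul_mk, adj_mk_iff, smul_eq_mul]
      rw [show g⁻¹ * (g * h) = 1⁻¹ * h by group]

open scoped Classical in
lemma adj_mul_apply (v w : Weyl P) (x y : G ⧸ P.B) : (adj P v * adj P w) x y =
    ((Finset.univ.filter fun z => Adj P v x z ∧ Adj P w z y).card : ℝ) := by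
  simp only [Matrix.mul_apply, adj, Finset.card_filter, Nat.cast_sum, Nat.cast_ite, Nat.cast_one,
    Nat.cast_zero]
  refine Finset.sum_congr rfl fun z _ => ?_
  by_cases h1 : Adj P v x z <;> by_cases h2 : Adj P w z y <;> simp [h1, h2]

open scoped Classical in
lemma adj_one [DecidableEq (G ⧸ P.B)] : adj P 1 = 1 := by
  ext x y
  simp [adj, adj_one_iff, Matrix.one_apply]

open scoped Classical in
/-- `A_s A_w = A_{sw}` when the length increases. -/
lemma adj_simple_mul (s : P.S) {w : Weyl P} (hlt : len P w < len P (sigma P s * w)) :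
    adj P (sigma P s) * adj P w = adj P (sigma P s * w) := by
  ext x y
  rw [adj_mul_apply]
  by_cases h : Adj P (sigma P s * w) x y
  · obtain ⟨z, hz1, hz2⟩ := adj_exists_mid P h
    rw [Finset.card_eq_one.2 ⟨z, ?_⟩]
    · simp [adj, h]
    refine Finset.eq_singleton_iff_unique_mem.2 ⟨by simp [hz1, hz2], fun z' hz' => ?_⟩
    simp only [Finset.mem_filter, Finset.mem_univ, true_and] at hz'
    have h1 : Adj P (sigma P s) z' x := by
      have := (adj_inv_iff P).1 hz'.1
      rwa [sigma_inv'] at this
    rcases adj_simple_left P s h1 hz1 with h2 | h2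
    · rw [sigma_sq, adj_one_iff] at h2
      exact h2
    · have h3 := adj_simple_reduced P s hlt.le h2 hz2
      rw [adj_unique P h3 hz'.2] at hlt
      exact absurd hlt (lt_irrefl _)
  · rw [Finset.card_eq_zero.2]
    · simp [adj, h]
    refine Finset.filter_eq_empty_iff.2 fun z _ hz => h ?_
    exact adj_simple_reduced P s hlt.le hz.1 hz.2

open scoped Classical in
/-- The quadratic relation. -/
lemma adj_simple_sq [DecidableEq (G ⧸ P.B)] (s : P.S) :
    adj P (sigma P s) * adj P (sigma P s) =
      (qw P (sigma P s) : ℝ) • 1 + ((qw P (sigma P s) : ℝ) - 1) • adj P (sigma P s) := by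
  ext x y
  rw [adj_mul_apply, Matrix.add_apply, Matrix.smul_apply, Matrix.smul_apply]
  by_cases hxy : x = y
  · subst hxy
    have hn : ¬ Adj P (sigma P s) x x := fun h =>
      sigma_ne_one P s (adj_unique P h ((adj_one_iff P).2 rfl))
    rw [show (Finset.univ.filter fun z => Adj P (sigma P s) x z ∧ Adj P (sigma P s) z x)
        = Finset.univ.filter (fun z => Adj P (sigma P s) x z) from Finset.filter_congr fun z _ =>
        ⟨fun h => h.1, fun h => ⟨h, by simpa [sigma_inv'] using (adj_inv_iff P).1 h⟩⟩, card_row]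
    simp [adj, hn]
  · by_cases h : Adj P (sigma P s) x y
    · have e : (Finset.univ.filter fun z => Adj P (sigma P s) x z ∧ Adj P (sigma P s) z y)
          = (Finset.univ.filter fun z => Adj P (sigma P s) x z).erase y := by
        ext z
        simp only [Finset.mem_filter, Finset.mem_univ, true_and, Finset.mem_erase]
        refine ⟨fun hz => ⟨fun e => ?_, hz.1⟩, fun hz => ⟨hz.2, ?_⟩⟩
        · subst e
          exact sigma_ne_one P s (adj_unique P hz.2 ((adj_one_iff P).2 rfl))
        · have h1 : Adj P (sigma P s) z x := by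
            simpa [sigma_inv'] using (adj_inv_iff P).1 hz.2
          rcases adj_simple_left P s h1 h with h2 | h2
          · rw [sigma_sq, adj_one_iff] at h2
            exact absurd h2 hz.1
          · exact h2
      have hy : y ∈ Finset.univ.filter fun z => Adj P (sigma P s) x z := by simp [h]
      rw [e, Finset.card_erase_of_mem hy, card_row, Nat.cast_sub
        (by rw [← card_row P _ x]; exact Finset.card_pos.2 ⟨y, hy⟩)]
      simp [adj, h, hxy, Matrix.one_apply]
    · rw [Finset.card_eq_zero.2]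
      · simp [adj, h, hxy]
      refine Finset.filter_eq_empty_iff.2 fun z _ hz => ?_
      rcases adj_simple_left P s hz.1 hz.2 with h2 | h2
      · rw [sigma_sq, adj_one_iff] at h2
        exact hxy h2
      · exact h h2

open scoped Classical in
lemma trace_adj_mul (v w : Weyl P) : Matrix.trace (adj P v * adj P w) =
    if w = v⁻¹ then (Fintype.card (G ⧸ P.B) : ℝ) * qw P v else 0 := by
  simp only [Matrix.trace, Matrix.diag, adj_mul_apply]
  split
  · next h =>
    subst h
    have e : ∀ x, (Finset.univ.filter fun z => Adj P v x z ∧ Adj P v⁻¹ z x)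
        = Finset.univ.filter fun z => Adj P v x z := fun x =>
      Finset.filter_congr fun z _ => ⟨fun h => h.1, fun h => ⟨h, (adj_inv_iff P).1 h⟩⟩
    simp [e, card_row]
  · next h =>
    refine Finset.sum_eq_zero fun x _ => ?_
    rw [Finset.card_eq_zero.2, Nat.cast_zero]
    exact Finset.filter_eq_empty_iff.2 fun z _ hz =>
      h (adj_unique P hz.2 ((adj_inv_iff P).1 hz.1))

lemma adj_mulVec_one (w : Weyl P) :
    (adj P w).mulVec (fun _ => (1 : ℝ)) = fun _ => (qw P w : ℝ) := by
  funext x
  classical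
  simp only [Matrix.mulVec, dotProduct, adj, mul_one, ← card_row P w x, Finset.sum_boole]

lemma qw_simple_mul (s : P.S) {w : Weyl P} (hlt : len P w < len P (sigma P s * w)) :
    qw P (sigma P s * w) = qw P (sigma P s) * qw P w := by
  classical
  have h := adj_mulVec_one P (sigma P s * w)
  rw [← adj_simple_mul P s hlt, ← Matrix.mulVec_mulVec, adj_mulVec_one] at h
  have e : (fun _ : G ⧸ P.B => (qw P w : ℝ)) = (qw P w : ℝ) • fun _ => (1 : ℝ) := by
    funext x; simp
  rw [e, Matrix.mulVec_smul, adj_mulVec_one] at h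
  have := congrFun h ((1 : G) : G ⧸ P.B)
  simp only [Pi.smul_apply, smul_eq_mul] at this
  rw [← @Nat.cast_inj ℝ, Nat.cast_mul]
  linarith

lemma qw_one : qw P 1 = 1 := by
  classical
  rw [qw, Finset.card_eq_one]
  exact ⟨((1 : G) : G ⧸ P.B), by ext y; simp [adj_one_iff, eq_comm]⟩

/-- Thickness: this is where `s B s ≠ B` is used. -/
lemma two_le_qw [Finite G] (s : P.S) : 2 ≤ qw P (sigma P s) := by
  classical
  by_contra hlt
  have huniq : ∀ g h : G, g ∈ C P (sigma P s) → h ∈ C P (sigma P s) → g⁻¹ * h ∈ P.B := by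
    intro g h hg hh
    rw [← QuotientGroup.eq]
    have hcard : (Finset.univ.filter fun y =>
        Adj P (sigma P s) ((1 : G) : G ⧸ P.B) y).card ≤ 1 := by
      have : qw P (sigma P s) ≤ 1 := by omega
      exact this
    refine Finset.card_le_one.1 hcard _ ?_ _ ?_
    · simpa [adj_mk_iff] using hg
    · simpa [adj_mk_iff] using hh
  have hs : (s : G) ∈ C P (sigma P s) := self_mem_C P (P.subset s.2)
  have hB : ∀ b ∈ P.B, (s : G) * b * s ∈ P.B := fun b hb => by
    have h1 := mul_mem (P.sq_mem _ s.2) (huniq _ _ hs (mul_mem_C_left P hb hs))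
    rwa [show (s : G) * s * ((s : G)⁻¹ * (b * s)) = s * b * s by group] at h1
  refine P.conj_ne _ s.2 (Set.eq_of_subset_of_ncard_le (Set.image_subset_iff.2 hB) ?_
    (Set.toFinite _))
  rw [Set.ncard_image_of_injective]
  intro a b h
  simpa using h

end Cfsg.Agent.BN
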