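import Cfsg.Agent.Lib.BN.Longest

/-!
# Double cosets of two special subgroups and the alternating collapse

For `m` without left descents in `K` and right descents in `A`: `W_K ∩ m W_A m⁻¹` is generated by
`inter σ m A K` (`mem_inter`). In the alternating sum over `A` of the minimal `(K, A)` representatives only
`m = w_K w₀` survives (`alt_collapse`).
-/

set_option autoImplicit false

namespace Cfsg.Agent.BN

variable {S W : Type*} [Group W]

/-- The generators in `K` carried into `A` by `m`. -/
def inter (σ : S → W) (m : W) (A K : Set S) : Set S := {k | k ∈ K ∧ ∃ a ∈ A, σ k * m = m * σ a}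

theorem inter_subset (σ : S → W) (m : W) (A K : Set S) : inter σ m A K ⊆ K := fun _ h => h.1

namespace HasExchange

variable {σ : S → W} (h : HasExchange σ)
include h

lemma isMinRep_inv {A B : Set S} {m : W} (hm : IsMinRep σ A B m) : IsMinRep σ B A m⁻¹ := by
  refine ⟨fun s hs => ?_, fun s hs => ?_⟩
  · rw [← h.rightDesc_iff]; exact hm.2 s hs
  · rw [h.rightDesc_iff, inv_inv]; exact hm.1 s hs

lemma isMinRep_left {A B : Set S} {m : W} (hm : IsMinRep σ A B m) : IsMinRep σ A ∅ m :=
  ⟨hm.1, fun s hs => absurd hs (Set.notMem_empty s)⟩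

lemma isMinRep_right {A B : Set S} {m : W} (hm : IsMinRep σ A B m) : IsMinRep σ ∅ B m :=
  ⟨fun s hs => absurd hs (Set.notMem_empty s), hm.2⟩

/-- Lengths add over minimal representatives, on the left. -/
lemma wlen_mul_of_minRep_left {A : Set S} {m v : W} (hm : IsMinRep σ A ∅ m)
    (hv : v ∈ Subgroup.closure (σ '' A)) : wlen σ (v * m) = wlen σ v + wlen σ m := by
  have := h.wlen_mul_of_minRep (h.isMinRep_inv hm) (inv_mem hv)
  rw [← mul_inv_rev, wlen_inv h.sq h.gen, wlen_inv h.sq h.gen, wlen_inv h.sq h.gen] at this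
  omega

/-- An element of length one in a special subgroup is one of its generators. -/
lemma exists_eq_sigma {A : Set S} {u : W} (hu : wlen σ u = 1) (huA : u ∈ Subgroup.closure (σ '' A)) :
    ∃ a ∈ A, u = σ a := by
  obtain ⟨l, hl, rfl⟩ := exists_isReduced h.sq h.gen u
  have hl' : l.length = 1 := hl.symm.trans hu
  obtain ⟨a, rfl⟩ := List.length_eq_one_iff.1 hl'
  exact ⟨a, h.reduced_letters_mem A hl huA a (by simp), by simp⟩

/-- Kilmoyer's intersection. -/
theorem mem_inter {A K : Set S} {m : W} (hm : IsMinRep σ K A m) {w v : W}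
    (hw : w ∈ Subgroup.closure (σ '' K)) (hv : v ∈ Subgroup.closure (σ '' A)) (e : w * m = m * v) :
    w ∈ Subgroup.closure (σ '' inter σ m A K) := by
  induction hn : wlen σ w using Nat.strong_induction_on generalizing w v with
  | _ n ih =>
    by_cases hw1 : w = 1
    · subst hw1; exact one_mem _
    obtain ⟨k, hk, hkd⟩ := h.exists_rightDesc_on (inv_mem hw) (inv_ne_one.2 hw1)
    rw [h.rightDesc_iff, inv_inv, LeftDesc] at hkd
    obtain ⟨lm, hlm, rfl⟩ := exists_isReduced h.sq h.gen m
    obtain ⟨lv, hlv, rfl⟩ := exists_isReduced h.sq h.gen v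
    have hadd := h.wlen_mul_of_minRep (h.isMinRep_right hm) hv
    have hred : IsReduced σ (lm ++ lv) := by
      rw [IsReduced, wprod_append, hadd, List.length_append, hlm, hlv]
    have hkw : σ k * w ∈ Subgroup.closure (σ '' K) := mul_mem (Subgroup.subset_closure ⟨k, hk, rfl⟩) hw
    have h1 := h.wlen_mul_of_minRep_left (h.isMinRep_left hm) hw
    have h2 := h.wlen_mul_of_minRep_left (h.isMinRep_left hm) hkw
    rw [mul_assoc, e] at h2
    rw [e] at h1
    obtain ⟨i, hi, he⟩ := h.exch (lm ++ lv) k hred (by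
      rw [wprod_append, List.length_append]
      rw [IsReduced] at hlm hlv
      omega)
    by_cases him : i < lm.length
    · exfalso
      rw [List.eraseIdx_append_of_lt_length him, wprod_append, wprod_append, ← mul_assoc] at he
      have h3 := wlen_le' (σ := σ) (lm.eraseIdx i) (mul_right_cancel he).symm
      rw [List.length_eraseIdx_of_lt him] at h3
      refine hm.1 k hk ?_
      rw [LeftDesc]
      rw [IsReduced] at hlm
      omega
    · rw [List.eraseIdx_append_of_length_le (not_lt.1 him), wprod_append, wprod_append] at he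
      set v' := wprod σ (lv.eraseIdx (i - lm.length))
      have hv' : v' ∈ Subgroup.closure (σ '' A) := (mem_closure_image_iff h.sq _ _).2
        ⟨_, fun s hs => h.reduced_letters_mem A hlv hv s ((List.eraseIdx_sublist lv _).subset hs), rfl⟩
      set u := v' * (wprod σ lv)⁻¹ with hudef
      have hu : u ∈ Subgroup.closure (σ '' A) := mul_mem hv' (inv_mem hv)
      have hkm : σ k * wprod σ lm = wprod σ lm * u := by
        rw [hudef, ← mul_assoc, ← he]; group
      have hu1 : wlen σ u = 1 := by
        have h3 := h.wlen_mul_of_minRep (h.isMinRep_right hm) hu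
        have h4 := h.wlen_sigma_mul_cases k (wprod σ lm)
        have h5 : ¬ wlen σ (σ k * wprod σ lm) < wlen σ (wprod σ lm) := hm.1 k hk
        rw [← hkm] at h3
        omega
      obtain ⟨a, ha, hua⟩ := h.exists_eq_sigma hu1 hu
      have hkI : k ∈ inter σ (wprod σ lm) A K := ⟨hk, a, ha, by rw [hkm, hua]⟩
      have := ih _ (by omega) hkw hv' (by rw [mul_assoc, e, he]) rfl
      have h6 := mul_mem (Subgroup.subset_closure ⟨k, hkI, rfl⟩ : σ k ∈ Subgroup.closure (σ '' inter σ (wprod σ lm) A K)) this
      rwa [sigma_mul_cancel h.sq] at h6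

section collapse

variable [Finite W]

/-- The longest element. -/
noncomputable def top : W := (h.exists_longest Set.univ).choose

/-- The longest element of a special subgroup. -/
noncomputable def longest (K : Set S) : W := (h.exists_longest K).choose

lemma longest_mem (K : Set S) : h.longest K ∈ Subgroup.closure (σ '' K) :=
  (h.exists_longest K).choose_spec.1

lemma longest_desc (K : Set S) : ∀ s ∈ K, RightDesc σ s (h.longest K) :=
  (h.exists_longest K).choose_spec.2.1

lemma longest_add {K : Set S} {v : W} (hv : v ∈ Subgroup.closure (σ '' K)) :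
    wlen σ (h.longest K) = wlen σ v + wlen σ (v⁻¹ * h.longest K) :=
  (h.exists_longest K).choose_spec.2.2 v hv

lemma longest_inv (K : Set S) : (h.longest K)⁻¹ = h.longest K := by
  refine h.eq_of_full_on (inv_mem (h.longest_mem K)) (h.longest_mem K) (fun s hs => ?_) (h.longest_desc K)
  rw [h.rightDesc_iff, inv_inv, LeftDesc]
  have h1 := h.longest_add (Subgroup.subset_closure ⟨s, hs, rfl⟩ : σ s ∈ Subgroup.closure (σ '' K))
  rw [sigma_inv h.sq, h.wlen_sigma] at h1
  omega

lemma longest_sq (K : Set S) : h.longest K * h.longest K = 1 := by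
  conv_lhs => arg 1; rw [← h.longest_inv K]
  rw [inv_mul_cancel]

lemma wlen_mul_longest {K : Set S} {v : W} (hv : v ∈ Subgroup.closure (σ '' K)) :
    wlen σ (v * h.longest K) + wlen σ v = wlen σ (h.longest K) := by
  have := h.longest_add (inv_mem hv)
  rw [inv_inv, wlen_inv h.sq h.gen] at this
  omega

lemma wlen_longest_mul {K : Set S} {v : W} (hv : v ∈ Subgroup.closure (σ '' K)) :
    wlen σ (h.longest K * v) + wlen σ v = wlen σ (h.longest K) := by
  have := h.wlen_mul_longest (inv_mem hv)
  rw [← wlen_inv h.sq h.gen, mul_inv_rev, inv_inv, h.longest_inv, wlen_inv h.sq h.gen v] at this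
  exact this

lemma mem_univ_closure (v : W) : v ∈ Subgroup.closure (σ '' Set.univ) := by
  rw [Set.image_univ, h.gen]; trivial

lemma eq_longest_univ {z : W} (hz : ∀ s, RightDesc σ s z) : z = h.longest Set.univ :=
  h.eq_of_forall_rightDesc hz fun s => h.longest_desc _ s (Set.mem_univ s)

/-- The surviving representative. -/
lemma eq_star {K : Set S} {m : W} (hm : IsMinRep σ K ∅ m)
    (hall : ∀ a, ¬ RightDesc σ a m → ∃ k ∈ K, σ k * m = m * σ a) :
    m = h.longest K * h.longest Set.univ := by
  have hz : h.longest K * m = h.longest Set.univ := by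
    refine h.eq_longest_univ fun a => ?_
    have h1 := h.wlen_mul_of_minRep_left hm (h.longest_mem K)
    rw [RightDesc, mul_assoc]
    by_cases ha : RightDesc σ a m
    · have h2 := wlen_mul_le h.sq h.gen (h.longest K) (m * σ a)
      rw [RightDesc] at ha
      omega
    · obtain ⟨k, hk, e⟩ := hall a ha
      have hkK : σ k ∈ Subgroup.closure (σ '' K) := Subgroup.subset_closure ⟨k, hk, rfl⟩
      rw [← e, ← mul_assoc, h.wlen_mul_of_minRep_left hm (mul_mem (h.longest_mem K) hkK), h1]
      have := h.wlen_longest_mul hkK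
      rw [h.wlen_sigma] at this
      omega
  rw [← hz, ← mul_assoc, h.longest_sq, one_mul]

/-- `w₀ σ_a w₀` is a generator. -/
lemma exists_opp (a : S) : ∃ b, h.longest Set.univ * σ a * h.longest Set.univ = σ b := by
  obtain ⟨b, -, hb⟩ := h.exists_eq_sigma (A := Set.univ) (u := h.longest Set.univ * σ a * h.longest Set.univ) (by
    have h1 := h.wlen_mul_longest (K := Set.univ) (h.mem_univ_closure (h.longest Set.univ * σ a))
    have h2 := h.wlen_longest_mul (K := Set.univ) (h.mem_univ_closure (σ a))
    rw [h.wlen_sigma] at h2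
    omega) (h.mem_univ_closure _)
  exact ⟨b, hb⟩

lemma star_left {K : Set S} {k : S} (hk : k ∈ K) :
    ∃ a, σ k * (h.longest K * h.longest Set.univ) = (h.longest K * h.longest Set.univ) * σ a ∧
      ¬ RightDesc σ a (h.longest K * h.longest Set.univ) := by
  set wK := h.longest K with hwK
  set w0 := h.longest Set.univ with hw0
  have hkK : σ k ∈ Subgroup.closure (σ '' K) := Subgroup.subset_closure ⟨k, hk, rfl⟩
  obtain ⟨k', hk', e'⟩ := h.exists_eq_sigma (A := K) (u := wK * σ k * wK) (by
    have h1 := h.wlen_mul_longest (K := K) (mul_mem (h.longest_mem K) hkK)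
    have h2 := h.wlen_longest_mul (K := K) hkK
    rw [← hwK] at h1 h2
    rw [h.wlen_sigma] at h2
    omega) (mul_mem (mul_mem (h.longest_mem K) hkK) (h.longest_mem K))
  obtain ⟨a, ha⟩ := h.exists_opp k'
  have hsqK : wK * wK = 1 := h.longest_sq K
  have hsq0 : w0 * w0 = 1 := h.longest_sq _
  have e : σ k * (wK * w0) = (wK * w0) * σ a := by
    rw [← ha, ← e', ← hw0]
    simp only [mul_assoc]
    rw [← mul_assoc w0 w0, hsq0, one_mul, ← mul_assoc wK wK, hsqK, one_mul]
  refine ⟨a, e, fun hd => ?_⟩
  rw [RightDesc, ← e, ← mul_assoc] at hd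
  have h1 := h.wlen_mul_longest (K := Set.univ) (h.mem_univ_closure (σ k * wK))
  have h2 := h.wlen_mul_longest (K := Set.univ) (h.mem_univ_closure wK)
  have h3 := h.wlen_mul_longest (K := K) hkK
  rw [← hwK] at h3
  rw [← hw0] at h1 h2
  rw [h.wlen_sigma] at h3
  omega

lemma star_minRep (K : Set S) : IsMinRep σ K ∅ (h.longest K * h.longest Set.univ) := by
  refine ⟨fun k hk hd => ?_, fun s hs => absurd hs (Set.notMem_empty s)⟩
  rw [LeftDesc, ← mul_assoc] at hd
  have h1 := h.wlen_mul_longest (K := Set.univ) (h.mem_univ_closure (σ k * h.longest K))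
  have h2 := h.wlen_mul_longest (K := Set.univ) (h.mem_univ_closure (h.longest K))
  have h3 := h.wlen_mul_longest (K := K) (Subgroup.subset_closure ⟨k, hk, rfl⟩ : σ k ∈ Subgroup.closure (σ '' K))
  rw [h.wlen_sigma] at h3
  omega

lemma star_asc {K : Set S} {a : S} (ha : ¬ RightDesc σ a (h.longest K * h.longest Set.univ)) :
    ∃ k ∈ K, σ k * (h.longest K * h.longest Set.univ) = (h.longest K * h.longest Set.univ) * σ a := by
  set wK := h.longest K with hwK
  set w0 := h.longest Set.univ with hw0
  obtain ⟨b, hb⟩ := h.exists_opp a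
  rw [← hw0] at hb
  have hsqK : wK * wK = 1 := h.longest_sq K
  have hsq0 : w0 * w0 = 1 := h.longest_sq _
  have e : wK * w0 * σ a = wK * σ b * w0 := by
    rw [← hb]; simp only [mul_assoc]; rw [hsq0, mul_one]
  -- `b ∈ K`
  have hbd : wlen σ (wK * σ b) < wlen σ wK := by
    by_contra hb'
    refine ha ?_
    rw [RightDesc, e]
    have h1 := h.wlen_mul_longest (K := Set.univ) (h.mem_univ_closure (wK * σ b))
    have h2 := h.wlen_mul_longest (K := Set.univ) (h.mem_univ_closure wK)
    rw [← hw0] at h1 h2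
    have h4 := h.wlen_sigma_mul_cases b wK⁻¹
    rw [wlen_inv h.sq h.gen, ← wlen_inv h.sq h.gen (σ b * wK⁻¹), h.mul_inv_sigma, inv_inv] at h4
    omega
  have hbK : b ∈ K := by
    obtain ⟨l, hl, hle⟩ := exists_isReduced h.sq h.gen wK⁻¹
    have hl' : wlen σ (σ b * wprod σ l) ≤ l.length := by
      rw [hle, ← wlen_inv h.sq h.gen (σ b * wK⁻¹), h.mul_inv_sigma, inv_inv]
      rw [IsReduced, hle, wlen_inv h.sq h.gen] at hl
      omega
    obtain ⟨i, -, he⟩ := h.exch l b hl hl'
    rw [← h.sigma_mem_iff K b]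
    have hlK := h.reduced_letters_mem K hl (by rw [hle]; exact inv_mem (h.longest_mem K))
    have h1 : wprod σ (l.eraseIdx i) ∈ Subgroup.closure (σ '' K) := (mem_closure_image_iff h.sq _ _).2
      ⟨_, fun s hs => hlK s ((List.eraseIdx_sublist l i).subset hs), rfl⟩
    rw [← he, hle] at h1
    exact (Subgroup.mul_mem_cancel_right _ (inv_mem (h.longest_mem K))).1 h1
  obtain ⟨a', ha', -⟩ := h.star_left hbK
  obtain ⟨k, hk, hk'⟩ := h.exists_eq_sigma (A := K) (u := wK * σ b * wK) (by
    have h1 := h.wlen_mul_longest (K := K) (mul_mem (h.longest_mem K) (Subgroup.subset_closure ⟨b, hbK, rfl⟩ : σ b ∈ Subgroup.closure (σ '' K)))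
    have h2 := h.wlen_longest_mul (K := K) (Subgroup.subset_closure ⟨b, hbK, rfl⟩ : σ b ∈ Subgroup.closure (σ '' K))
    rw [← hwK] at h1 h2
    rw [h.wlen_sigma] at h2
    omega) (mul_mem (mul_mem (h.longest_mem K) (Subgroup.subset_closure ⟨b, hbK, rfl⟩)) (h.longest_mem K))
  refine ⟨k, hk, ?_⟩
  rw [← hk', e, mul_assoc, ← mul_assoc wK wK, hsqK, one_mul]

open scoped Classical in
open Finset in
/-- The alternating collapse. -/
theorem alt_collapse [Fintype S] [Fintype W] (K : Finset S) (f : Finset S → ℤ) :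
    ∑ A : Finset S, (-1 : ℤ) ^ A.card * ∑ m ∈ univ.filter (fun m => IsMinRep σ (K : Set S) (A : Set S) m),
        f (K.filter fun k => ∃ a ∈ A, σ k * m = m * σ a) =
      ∑ K' ∈ K.powerset, (-1 : ℤ) ^ K'.card * f K' := by
  set Asc : W → Finset S := fun m => univ.filter fun a => ¬ RightDesc σ a m with hAsc
  set I : W → Finset S → Finset S := fun m A => K.filter fun k => ∃ a ∈ A, σ k * m = m * σ a with hI
  have hswap : ∑ A : Finset S, (-1 : ℤ) ^ A.card *
      ∑ m ∈ univ.filter (fun m => IsMinRep σ (K : Set S) (A : Set S) m), f (I m A) =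
      ∑ m ∈ univ.filter (fun m => IsMinRep σ (K : Set S) ∅ m),
        ∑ A ∈ (Asc m).powerset, (-1 : ℤ) ^ A.card * f (I m A) := by
    simp only [Finset.mul_sum]
    refine Finset.sum_comm' fun A m => ?_
    simp only [Finset.mem_univ, true_and, Finset.mem_filter, Finset.mem_powerset, hAsc, IsMinRep,
      Finset.subset_iff, Set.mem_empty_iff_false, false_imp_iff, implies_true, and_true, Finset.mem_coe]
    tauto
  rw [hswap]
  set ms := h.longest (K : Set S) * h.longest Set.univ with hms
  have hmin : IsMinRep σ (K : Set S) ∅ ms := h.star_minRep _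
  rw [Finset.sum_eq_single ms]
  · have hk : ∀ k : S, ∃ a, k ∈ K → (σ k * ms = ms * σ a ∧ a ∈ Asc ms) := fun k => by
      by_cases hk : k ∈ K
      · obtain ⟨a, ha, ha'⟩ := h.star_left (K := (K : Set S)) hk
        exact ⟨a, fun _ => ⟨ha, Finset.mem_filter.2 ⟨Finset.mem_univ _, ha'⟩⟩⟩
      · exact ⟨k, fun hk' => absurd hk' hk⟩
    choose φ hφ using hk
    have hinj : Set.InjOn φ (K : Set S) := fun x hx y hy e => h.inj (mul_right_cancel
      ((hφ x hx).1.trans (by rw [e]; exact (hφ y hy).1.symm)))
    have hIK : ∀ A, A ⊆ Asc ms → (I ms A).image φ = A := by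
      intro A hA
      ext a
      simp only [hI, Finset.mem_image, Finset.mem_filter]
      constructor
      · rintro ⟨k, ⟨hk, a', ha', e⟩, rfl⟩
        rwa [show φ k = a' from h.inj (mul_left_cancel ((hφ k hk).1.symm.trans e))]
      · intro ha
        obtain ⟨k, hk, e⟩ := h.star_asc (Finset.mem_filter.1 (hA ha)).2
        exact ⟨k, ⟨hk, a, ha, e⟩, h.inj (mul_left_cancel ((hφ k hk).1.symm.trans e))⟩
    refine Finset.sum_bij' (fun A _ => I ms A) (fun K' _ => K'.image φ) ?_ ?_ ?_ ?_ ?_
    · intro A _; exact Finset.mem_powerset.2 (Finset.filter_subset _ _)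
    · intro K' hK'
      refine Finset.mem_powerset.2 fun a ha => ?_
      obtain ⟨k, hk, rfl⟩ := Finset.mem_image.1 ha
      exact (hφ k (Finset.mem_powerset.1 hK' hk)).2
    · intro A hA; exact hIK A (Finset.mem_powerset.1 hA)
    · intro K' hK'
      ext k
      simp only [hI, Finset.mem_filter, Finset.mem_image]
      constructor
      · rintro ⟨hk, a, ⟨k', hk', rfl⟩, e⟩
        rwa [show k = k' from hinj hk (Finset.mem_powerset.1 hK' hk')
          (h.inj (mul_left_cancel ((hφ k hk).1.symm.trans e)))]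
      · intro hk
        exact ⟨Finset.mem_powerset.1 hK' hk, φ k, ⟨k, hk, rfl⟩, (hφ k (Finset.mem_powerset.1 hK' hk)).1⟩
    · intro A hA
      congr 2
      conv_lhs => rw [← hIK A (Finset.mem_powerset.1 hA)]
      exact Finset.card_image_of_injOn (hinj.mono (Finset.coe_subset.2 (Finset.filter_subset _ _)))
  · intro m hm hne
    obtain ⟨a₀, ha₀, hbad⟩ : ∃ a₀, ¬ RightDesc σ a₀ m ∧ ∀ k ∈ K, σ k * m ≠ m * σ a₀ := by
      by_contra hc
      push Not at hc
      exact hne (h.eq_star (Finset.mem_filter.1 hm).2 hc)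
    have hI' : ∀ A, I m (insert a₀ A) = I m A := by
      intro A
      ext k
      simp only [hI, Finset.mem_filter, Finset.mem_insert]
      refine and_congr_right fun hk => ⟨?_, fun ⟨a, ha, e⟩ => ⟨a, Or.inr ha, e⟩⟩
      rintro ⟨a, rfl | ha, e⟩
      · exact absurd e (hbad k hk)
      · exact ⟨a, ha, e⟩
    have ha₀' : a₀ ∈ Asc m := Finset.mem_filter.2 ⟨Finset.mem_univ _, ha₀⟩
    rw [← Finset.insert_erase ha₀', Finset.sum_powerset_insert (Finset.notMem_erase _ _),
      ← Finset.sum_add_distrib]
    refine Finset.sum_eq_zero fun A hA => ?_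
    rw [hI', Finset.card_insert_of_notMem fun ha => Finset.notMem_erase _ _ (Finset.mem_powerset.1 hA ha)]
    ring
  · intro hn
    exact absurd (Finset.mem_filter.2 ⟨Finset.mem_univ _, hmin⟩) hn

end collapse

end HasExchange

end Cfsg.Agent.BN
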