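import Cfsg.Agent.Lib.BN.Descents

/-!
# The longest element of a special subgroup of an exchange group

* `exists_longest` : in `⟨σ s : s ∈ A⟩` an element with all of `A` as left and right descents;
* `longest_spec` : every element of the special subgroup is a length-additive left factor of it;
* `eq_of_full_on` : uniqueness.
-/

set_option autoImplicit false

namespace Cfsg.Agent.BN

namespace HasExchange

variable {S W : Type*} [Group W] {σ : S → W} (h : HasExchange σ)
include h

/-- A reduced word in `A` begins a reduced word of an element having all of `A` as left descents. -/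
lemma exists_reduced_prefix_on {A : Set S} {w : W} (hw : ∀ s ∈ A, LeftDesc σ s w) :
    ∀ la : List S, (∀ s ∈ la, s ∈ A) → IsReduced σ la →
      ∃ u : List S, IsReduced σ (la ++ u) ∧ wprod σ (la ++ u) = w := by
  intro la
  induction la with
  | nil => intro _ _; simpa using exists_isReduced h.sq h.gen w
  | cons s la ih =>
    intro hA hla
    obtain ⟨u, hu, hue⟩ := ih (fun t ht => hA t (List.mem_cons_of_mem _ ht)) (hla.tail h.sq h.gen)
    have hd := hw s (hA s (by simp))
    rw [LeftDesc, ← hue] at hd
    have hu' := hu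
    rw [IsReduced] at hu'
    obtain ⟨i, hi, e⟩ := h.exch _ s hu (by omega)
    by_cases hia : i < la.length
    · exfalso
      rw [List.eraseIdx_append_of_lt_length hia, wprod_append, wprod_append, ← mul_assoc] at e
      have h1 := wlen_le' (σ := σ) (la.eraseIdx i) (mul_right_cancel e).symm
      rw [IsReduced, wprod_cons, List.length_cons] at hla
      rw [List.length_eraseIdx_of_lt hia] at h1
      omega
    · rw [List.eraseIdx_append_of_length_le (not_lt.1 hia)] at e
      refine ⟨u.eraseIdx (i - la.length), ?_, ?_⟩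
      · have hlen : (u.eraseIdx (i - la.length)).length + 1 = u.length := by
          rw [List.length_append] at hi
          rw [List.length_eraseIdx_of_lt (by omega)]; omega
        have heq : wprod σ (s :: la ++ u.eraseIdx (i - la.length)) = w := by
          rw [List.cons_append, wprod_cons, ← e, sigma_mul_cancel h.sq, hue]
        rw [IsReduced, heq, List.length_append, List.length_cons]
        rw [hue, List.length_append] at hu'
        omega
      · rw [List.cons_append, wprod_cons, ← e, sigma_mul_cancel h.sq, hue]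

/-- An element with all of `A` as left descents absorbs the elements of `⟨A⟩`. -/
lemma wlen_add_of_full_on {A : Set S} {w v : W} (hw : ∀ s ∈ A, LeftDesc σ s w)
    (hv : v ∈ Subgroup.closure (σ '' A)) : wlen σ w = wlen σ v + wlen σ (v⁻¹ * w) := by
  obtain ⟨la, hla, rfl⟩ := exists_isReduced h.sq h.gen v
  obtain ⟨u, hu, hue⟩ := h.exists_reduced_prefix_on hw la (h.reduced_letters_mem A hla hv) hla
  have hu2 := hu.append_right h.sq h.gen
  rw [IsReduced, hue, List.length_append] at hu
  rw [IsReduced] at hla hu2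
  rw [← hue, wprod_append, inv_mul_cancel_left, ← wprod_append, hue, hla, hu2, hu]

lemma eq_of_leftFull_on {A : Set S} {w w' : W} (hwA : w ∈ Subgroup.closure (σ '' A))
    (hwA' : w' ∈ Subgroup.closure (σ '' A)) (hw : ∀ s ∈ A, LeftDesc σ s w)
    (hw' : ∀ s ∈ A, LeftDesc σ s w') : w = w' := by
  have h1 := h.wlen_add_of_full_on hw hwA'
  have h2 := h.wlen_add_of_full_on hw' hwA
  have h3 : wlen σ (w'⁻¹ * w) = 0 := by omega
  exact (inv_mul_eq_one.1 (wlen_eq_zero h.sq h.gen h3)).symm

/-- Uniqueness. -/
lemma eq_of_full_on {A : Set S} {w w' : W} (hwA : w ∈ Subgroup.closure (σ '' A))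
    (hwA' : w' ∈ Subgroup.closure (σ '' A)) (hw : ∀ s ∈ A, RightDesc σ s w)
    (hw' : ∀ s ∈ A, RightDesc σ s w') : w = w' :=
  inv_injective (h.eq_of_leftFull_on (inv_mem hwA) (inv_mem hwA')
    (fun s hs => (h.rightDesc_iff s w).1 (hw s hs)) fun s hs => (h.rightDesc_iff s w').1 (hw' s hs))

/-- Existence. -/
lemma exists_longest [Finite W] (A : Set S) :
    ∃ w ∈ Subgroup.closure (σ '' A), (∀ s ∈ A, RightDesc σ s w) ∧
      ∀ v ∈ Subgroup.closure (σ '' A), wlen σ w = wlen σ v + wlen σ (v⁻¹ * w) := by
  obtain ⟨⟨w, hwA⟩, hmax⟩ := Finite.exists_max fun w : Subgroup.closure (σ '' A) => wlen σ (w : W)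
  have hs : ∀ s ∈ A, σ s ∈ Subgroup.closure (σ '' A) := fun s hs => Subgroup.subset_closure ⟨s, hs, rfl⟩
  refine ⟨w, hwA, fun s hsA => ?_, fun v hv => h.wlen_add_of_full_on (fun s hsA => ?_) hv⟩
  · rw [h.rightDesc_iff]
    refine lt_of_le_of_ne ?_ (h.wlen_sigma_mul_ne s w⁻¹)
    rw [wlen_inv h.sq h.gen w]
    exact hmax ⟨σ s * w⁻¹, mul_mem (hs s hsA) (inv_mem hwA)⟩
  · exact lt_of_le_of_ne (hmax ⟨σ s * w, mul_mem (hs s hsA) hwA⟩) (h.wlen_sigma_mul_ne s w)

/-- A non-trivial element of `⟨A⟩` has a right descent in `A`. -/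
lemma exists_rightDesc_on {A : Set S} {w : W} (hwA : w ∈ Subgroup.closure (σ '' A)) (hw : w ≠ 1) :
    ∃ s ∈ A, RightDesc σ s w := by
  obtain ⟨l, hl, rfl⟩ := exists_isReduced h.sq h.gen w
  rcases List.eq_nil_or_concat' l with rfl | ⟨k, s, rfl⟩
  · exact absurd rfl hw
  · exact ⟨s, h.reduced_letters_mem A hl hwA s (by simp), h.rightDesc_last hl⟩

end HasExchange

end Cfsg.Agent.BN
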