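import Cfsg.Agent.Lib.BN.Parabolic

/-!
# Tits' simplicity criterion

* `commute_of_normal` : for normal `H`, generators inside `HB` commute in `W` with the others;
* `normal_le_or_sup_eq_top` : irreducibility gives `H ≤ B` or `HB = G`;
* `isSimpleGroup_of_irreducible`.
-/

set_option autoImplicit false

namespace Cfsg.Agent.BN

variable {G : Type*} [Group G] (P : Cfsg.BNPair G)

lemma len_simple_mul_simple {s t : P.S} (h : s ≠ t) : len P (sigma P s * sigma P t) = 2 := by
  rcases (hasExchange P).wlen_sigma_mul_cases s (sigma P t) with h1 | h1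
  · simpa [len, (hasExchange P).wlen_sigma t] using h1
  · rw [(hasExchange P).wlen_sigma t] at h1
    have h2 : sigma P s * sigma P t = 1 :=
      wlen_eq_zero (sigma_sq P) (closure_sigma P) (by omega)
    exact absurd (sigma_inj P ((mul_eq_one_iff_eq_inv.1 h2).trans (sigma_inv' P t))) h

theorem commute_of_normal (H : Subgroup G) [H.Normal] {s t : P.S}
    (hs : (s : G) ∈ H ⊔ P.B) (ht : (t : G) ∉ H ⊔ P.B) :
    sigma P s * sigma P t = sigma P t * sigma P s := by
  have hM : P.B ≤ H ⊔ P.B := le_sup_right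
  have hJ : P.S ∩ (↑(H ⊔ P.B) : Set G) ⊆ P.S := Set.inter_subset_left
  have hWJ : ∀ {w : Weyl P} {g : G}, g ∈ C P w → g ∈ H ⊔ P.B →
      w ∈ WJ P (P.S ∩ (↑(H ⊔ P.B) : Set G)) := fun hg hgM =>
    mem_WJ_of_mem_C P hJ hg (by rwa [← eq_parabolic_of_le P hM])
  obtain ⟨g, hgH, hg⟩ : ∃ g ∈ H, g ∈ C P (sigma P s) := by
    obtain ⟨h, hh, b, hb, e⟩ := Subgroup.mem_sup_of_normal_left.1 hs
    refine ⟨h, hh, ?_⟩
    rw [show h = (s : G) * b⁻¹ by rw [← e]; group]
    exact mul_mem_C_right P (self_mem_C P (P.subset s.2)) (inv_mem hb)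
  have hne : s ≠ t := fun h => ht (h ▸ hs)
  have hx : (t : G) ∈ C P (sigma P t) := self_mem_C P (P.subset t.2)
  have hx' : (t : G)⁻¹ ∈ C P (sigma P t) := by simpa [sigma_inv'] using inv_mem_C P hx
  have hle : len P (sigma P s) ≤ len P (sigma P t * sigma P s) := by
    rw [len_simple_mul_simple P hne.symm]
    exact (wlen_sigma_le s).trans one_le_two
  have hconjH : (t : G) * g * (t : G)⁻¹ ∈ H ⊔ P.B :=
    (le_sup_left : H ≤ H ⊔ P.B) (‹H.Normal›.conj_mem g hgH t)
  have hsJ : sigma P s ∈ WJ P (P.S ∩ (↑(H ⊔ P.B) : Set G)) :=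
    Subgroup.subset_closure ⟨s, ⟨s.2, hs⟩, rfl⟩
  rcases mul_right_simple P t (mul_reduced P t hle hx hg) hx' with h1 | h1
  · have hw := hWJ h1 hconjH
    have hst : IsReduced (sigma P) [s, t] := by
      simpa [IsReduced] using len_simple_mul_simple P hne
    have hlen3 : wlen (sigma P) (sigma P t * (sigma P s * sigma P t)) ≤ 2 := by
      rcases (hasExchange P).wlen_sigma_mul_cases t (sigma P s * sigma P t) with h2 | h2
      · have hred : IsReduced (sigma P) [t, s, t] := by
          have h3 := len_simple_mul_simple P hne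
          simp only [IsReduced, wprod_cons, wprod_nil, mul_one, List.length_cons, List.length_nil,
            len] at *
          omega
        have h3 := (hasExchange P).reduced_letters_mem _ hred
          (by simpa [wprod, mul_assoc, WJ] using hw) t (by simp)
        exact absurd h3.2 ht
      · have h3 := len_simple_mul_simple P hne
        simp only [len] at *
        omega
    obtain ⟨i, hi, e⟩ := (hasExchange P).exch [s, t] t hst (by simpa using hlen3)
    have hi' : i = 0 ∨ i = 1 := by simp at hi; omega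
    rcases hi' with rfl | rfl
    · simp only [wprod_cons, wprod_nil, mul_one, List.eraseIdx_cons_zero] at e
      rw [← mul_assoc, mul_eq_right] at e
      exact absurd (sigma_inj P ((mul_eq_one_iff_eq_inv.1 e).trans (sigma_inv' P s))).symm hne
    · simp only [wprod_cons, wprod_nil, mul_one, List.eraseIdx_cons_succ,
        List.eraseIdx_cons_zero] at e
      calc sigma P s * sigma P t
          = sigma P t * (sigma P t * (sigma P s * sigma P t)) := (sigma_mul_cancel (sigma_sq P) _ _).symm
        _ = _ := by rw [e]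
  · have hw := hWJ h1 hconjH
    have h2 := mul_mem hw (inv_mem hsJ)
    rw [mul_inv_cancel_right] at h2
    exact absurd (((hasExchange P).sigma_mem_iff _ t).1 h2).2 ht

lemma comm_mem_B {s t : P.S} (h : sigma P s * sigma P t = sigma P t * sigma P s) :
    (s : G) * t * (s : G)⁻¹ * (t : G)⁻¹ ∈ P.B := by
  rw [← wOf_eq_one_iff P (mul_mem (mul_mem (mul_mem (P.subset s.2) (P.subset t.2))
    (inv_mem (P.subset s.2))) (inv_mem (P.subset t.2)))]
  show sigma P s * sigma P t * (sigma P s)⁻¹ * (sigma P t)⁻¹ = 1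
  rw [h]; group

theorem normal_le_or_sup_eq_top (hirr : P.Irreducible) (H : Subgroup G) [H.Normal] :
    H ≤ P.B ∨ H ⊔ P.B = ⊤ := by
  have hM : P.B ≤ H ⊔ P.B := le_sup_right
  by_cases hJ : (P.S ∩ (↑(H ⊔ P.B) : Set G)).Nonempty
  · right
    have hall : ∀ x ∈ P.S, x ∈ H ⊔ P.B := by
      by_contra hne
      push Not at hne
      obtain ⟨x, hx, hxM⟩ := hne
      obtain ⟨s, hs, t, ht, hst⟩ :=
        hirr _ Set.inter_subset_left hJ ⟨x, hx, fun h => hxM h.2⟩
      exact hst (comm_mem_B P (commute_of_normal P H (s := ⟨s, hs.1⟩) (t := ⟨t, ht.1⟩)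
        hs.2 fun h => ht.2 ⟨ht.1, h⟩))
    rw [eq_top_iff, eq_parabolic_of_le P (le_top : P.B ≤ ⊤)]
    exact sup_le hM ((Subgroup.closure_le _).2 fun x hx => hall x hx.1)
  · left
    have h := eq_parabolic_of_le P hM
    rw [Set.not_nonempty_iff_eq_empty.1 hJ, Cfsg.BNPair.parabolic, Subgroup.closure_empty,
      sup_bot_eq] at h
    exact le_sup_left.trans h.le

theorem isSimpleGroup_of_irreducible [Nontrivial G] (hirr : P.Irreducible)
    (hsolv : Group.IsSolvable P.B) (hperf : commutator G = ⊤) (hcore : P.B.normalCore = ⊥) :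
    IsSimpleGroup G := by
  refine ⟨fun H hH => ?_⟩
  rcases normal_le_or_sup_eq_top P hirr H with h | h
  · exact Or.inl (le_bot_iff.1 (hcore ▸ Subgroup.normal_le_normalCore.2 h))
  · right
    have hsurj : Function.Surjective ((QuotientGroup.mk' H).comp P.B.subtype) := fun q => by
      induction q using QuotientGroup.induction_on with
      | H x =>
        obtain ⟨a, ha, b, hb, rfl⟩ :=
          Subgroup.mem_sup_of_normal_left.1 (show x ∈ H ⊔ P.B by rw [h]; trivial)
        refine ⟨⟨b, hb⟩, ?_⟩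
        show ((b : G) : G ⧸ H) = (((a * b : G)) : G ⧸ H)
        rw [QuotientGroup.mk_mul, (QuotientGroup.eq_one_iff a).2 ha, one_mul]
    have : Group.IsSolvable P.B := hsolv
    have hq : Group.IsSolvable (G ⧸ H) := Group.isSolvable_of_surjective hsurj
    have hc : ⁅(⊤ : Subgroup (G ⧸ H)), (⊤ : Subgroup (G ⧸ H))⁆ = ⊤ := by
      have e := congrArg (Subgroup.map (QuotientGroup.mk' H)) hperf
      rwa [commutator_def, Subgroup.map_commutator,
        Subgroup.map_top_of_surjective _ (QuotientGroup.mk'_surjective H)] at e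
    have hd : ∀ n, derivedSeries (G ⧸ H) n = ⊤ := fun n => by
      induction n with
      | zero => rfl
      | succ n ih => rw [derivedSeries_succ, ih, hc]
    obtain ⟨n, hn⟩ := hq
    rw [hd n] at hn
    rw [eq_top_iff]
    intro x _
    exact (QuotientGroup.eq_one_iff x).1 (Subgroup.mem_bot.1 (hn ▸ Subgroup.mem_top (x : G ⧸ H)))

end Cfsg.Agent.BN
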