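import Cfsg.Agent.Lib.BN.Bruhat

/-!
# (B,N)-pair of a doubly transitive action
-/

set_option autoImplicit false

namespace Cfsg.Agent.BN

open scoped Pointwise

variable {G Ω : Type*} [Group G] [MulAction G Ω]

lemma mem_stabilizer_pair {x y : Ω} {g : G} :
    g ∈ MulAction.stabilizer G ({x, y} : Set Ω) ↔ ({g • x, g • y} : Set Ω) = {x, y} := by
  rw [MulAction.mem_stabilizer_iff, Set.smul_set_insert, Set.smul_set_singleton]

lemma mem_stabilizer_pair_cases {x y : Ω} (hxy : x ≠ y) {g : G}
    (hg : g ∈ MulAction.stabilizer G ({x, y} : Set Ω)) :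
    (g • x = x ∧ g • y = y) ∨ (g • x = y ∧ g • y = x) := by
  rw [mem_stabilizer_pair] at hg
  rcases (Set.pair_eq_pair_iff).1 hg with h | h
  · exact Or.inl h
  · exact Or.inr h

lemma doubleCoset_eq_aux {B : Subgroup G} {a b : G} (h : a⁻¹ * b ∈ B) :
    DoubleCoset.doubleCoset a (B : Set G) B = DoubleCoset.doubleCoset b (B : Set G) B :=
  (DoubleCoset.doubleCoset_eq_of_mem (DoubleCoset.mem_doubleCoset.2
    ⟨1, one_mem _, a⁻¹ * b, h, by simp⟩)).symm

theorem exists_bnPair_of_two_transitive (h2 : MulAction.IsMultiplyPretransitive G Ω 2)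
    {x y z : Ω} (hxy : x ≠ y) (hyz : y ≠ z) (hxz : x ≠ z) :
    ∃ P : Cfsg.BNPair G, P.B = MulAction.stabilizer G x ∧
      P.N = MulAction.stabilizer G ({x, y} : Set Ω) ∧ P.rank = 1 := by
  rw [MulAction.is_two_pretransitive_iff] at h2
  obtain ⟨t, htx, hty⟩ := h2 hxy hxy.symm
  set B := MulAction.stabilizer G x
  set N := MulAction.stabilizer G ({x, y} : Set Ω)
  have htN : t ∈ N := by rw [mem_stabilizer_pair, htx, hty, Set.pair_comm]
  have htB : t ∉ B := fun h => hxy ((MulAction.mem_stabilizer_iff.1 h).symm.trans htx)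
  have htt : t * t ∈ B := by rw [MulAction.mem_stabilizer_iff, mul_smul, htx, hty]
  -- two cells
  have cells : ∀ g : G, g ∈ B ∨ g ∈ DoubleCoset.doubleCoset t (B : Set G) B := fun g => by
    rcases eq_or_ne (g • x) x with h | h
    · exact Or.inl h
    · obtain ⟨b, hbx, hby⟩ := h2 hxy h.symm
      refine Or.inr (DoubleCoset.mem_doubleCoset.2 ⟨b, hbx, (b * t)⁻¹ * g, ?_, by group⟩)
      rw [SetLike.mem_coe, MulAction.mem_stabilizer_iff, mul_smul, inv_smul_eq_iff, mul_smul, htx,
        hby]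
  have hclosure : Subgroup.closure {t} ⊔ (B ⊓ N) = N := by
    refine le_antisymm (sup_le ((Subgroup.closure_le _).2 (by simpa using htN)) inf_le_right) ?_
    intro g hg
    rcases mem_stabilizer_pair_cases hxy hg with ⟨h, -⟩ | ⟨h, -⟩
    · exact (le_sup_right : B ⊓ N ≤ _) ⟨h, hg⟩
    · have h1 : t⁻¹ * g ∈ B ⊓ N := by
        refine Subgroup.mem_inf.2 ⟨?_, mul_mem (inv_mem htN) hg⟩
        rw [MulAction.mem_stabilizer_iff, mul_smul, h, ← htx, inv_smul_smul]
      have := mul_mem ((le_sup_left : Subgroup.closure {t} ≤ _ ⊔ (B ⊓ N))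
        (Subgroup.subset_closure rfl)) ((le_sup_right : B ⊓ N ≤ Subgroup.closure {t} ⊔ _) h1)
      simpa using this
  refine ⟨{
    B := B
    N := N
    S := {t}
    sup_eq_top := ?_
    conj_mem := ?_
    subset := by simpa using htN
    sq_mem := by simpa using htt
    inj := by simp
    closure_sup := hclosure
    mul_mem_union := ?_
    conj_ne := ?_ }, rfl, rfl, ?_⟩
  · rw [eq_top_iff]
    intro g _
    rcases cells g with h | h
    · exact (le_sup_left : B ≤ B ⊔ N) h
    · obtain ⟨b, hb, b', hb', rfl⟩ := DoubleCoset.mem_doubleCoset.1 h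
      exact mul_mem (mul_mem ((le_sup_left : B ≤ B ⊔ N) hb) ((le_sup_right : N ≤ B ⊔ N) htN))
        ((le_sup_left : B ≤ B ⊔ N) hb')
  · intro n hn u hu
    rcases mem_stabilizer_pair_cases hxy hu.2 with ⟨hux, huy⟩ | ⟨hux, -⟩
    · rw [MulAction.mem_stabilizer_iff, mul_smul, mul_smul]
      rcases mem_stabilizer_pair_cases hxy hn with ⟨hnx, -⟩ | ⟨-, hny⟩
      · rw [show n⁻¹ • x = x from inv_smul_eq_iff.2 hnx.symm, hux, hnx]
      · rw [show n⁻¹ • x = y from inv_smul_eq_iff.2 hny.symm, huy, hny]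
    · exact absurd ((MulAction.mem_stabilizer_iff.1 hu.1).symm.trans hux) hxy
  · intro s hs n hn b hb
    rw [Set.mem_singleton_iff.1 hs]
    clear hs s
    by_cases hnB : n ∈ B
    · left
      exact DoubleCoset.mem_doubleCoset.2
        ⟨1, one_mem B, n⁻¹ * b * n, mul_mem (mul_mem (inv_mem hnB) hb) hnB, by group⟩
    · have hny : n • y = x := by
        rcases mem_stabilizer_pair_cases hxy hn with ⟨h, -⟩ | ⟨-, h⟩
        · exact absurd h hnB
        · exact h
      have h1 : t⁻¹ * n ∈ B := by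
        rcases mem_stabilizer_pair_cases hxy hn with ⟨h, -⟩ | ⟨h, -⟩
        · exact absurd h hnB
        · rw [MulAction.mem_stabilizer_iff, mul_smul, h, ← htx, inv_smul_smul]
      rcases cells (t * b * n) with h | h
      · left
        have h2 : t * n ∈ B := by
          rw [MulAction.mem_stabilizer_iff, mul_smul]
          rcases mem_stabilizer_pair_cases hxy hn with ⟨h', -⟩ | ⟨h', -⟩
          · exact absurd h' hnB
          · rw [h', hty]
        exact DoubleCoset.mem_doubleCoset.2
          ⟨1, one_mem B, (t * n)⁻¹ * (t * b * n), mul_mem (inv_mem h2) h, by group⟩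
      · right
        rwa [← doubleCoset_eq_aux h1]
  · intro s hs
    rw [Set.mem_singleton_iff.1 hs]
    clear hs s
    intro he
    obtain ⟨b, hbx, hby⟩ := h2 hxy hxz
    have hmem : t * b * t ∈ B := by
      rw [← SetLike.mem_coe, ← he]; exact ⟨b, hbx, rfl⟩
    rw [MulAction.mem_stabilizer_iff, mul_smul, mul_smul, htx, hby] at hmem
    exact hyz ((smul_left_cancel t (hty.trans hmem.symm)))
  · show Nat.card ({t} : Set G) = 1
    simp

end Cfsg.Agent.BN
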